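import Cfsg.Agent.H94.L3Rep
import Cfsg.Agent.H55.A7R
import Cfsg.Agent.H55.Basic
import Cfsg.Agent.H56.OutGrp
import Cfsg.Agent.H83.Dihedral
import Cfsg.Agent.H61.SL2Basic
import Cfsg.Agent.H3.NSLU2
import Cfsg.Agent.S2086
import Cfsg.Agent.S2601

/-! Chapter LIST of S3140: facts that hold in every configuration. -/

set_option autoImplicit false

namespace H94.L3

open Subgroup Cfsg Matrix
open scoped MatrixGroups commutatorElement

universe u

instance : Fact (Nat.Prime 3) := ⟨Nat.prime_three⟩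

theorem center_M : center M = ⊥ := by
  rw [← card_eq_one, H57.card_center_sl]
  simp

/-- `PSL₃(3) = SL₃(3)` -/
noncomputable def eM : ProjectiveSpecialLinearGroup (Fin 3) (ZMod 3) ≃* M :=
  (QuotientGroup.quotientMulEquivOfEq center_M).trans QuotientGroup.quotientBot

theorem psl_iso {F : Type*} [Field F] [Fintype F] (h : Fintype.card F = 3) :
    Nonempty (ProjectiveSpecialLinearGroup (Fin 3) F ≃* M) :=
  ⟨(H55.pslCongr (ZMod.ringEquivOfPrime F Nat.prime_three h).symm).trans eM⟩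

theorem Out.final {Y : Type*} [Group Y] (h : Out Y) {F : Type*} [Field F] [Fintype F]
    (c : Fintype.card F = 3) :
    (∃ (K : Type) (_ : Field K) (_ : Fintype K), Fintype.card K = 9 ∧
      Nonempty (Y ≃* ProjectiveSpecialLinearGroup (Fin 3) K)) ∨
    Nonempty (Y ≃* ProjectiveSpecialLinearGroup (Fin 4) F) ∨
    Nonempty (Y ≃* ProjectiveSpecialLinearGroup (Fin 5) F) :=
  h.imp_right (Or.imp (fun ⟨e⟩ => ⟨e.trans (H55.pslCongr (ZMod.ringEquivOfPrime F Nat.prime_three c))⟩)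
    fun ⟨e⟩ => ⟨e.trans (H55.pslCongr (ZMod.ringEquivOfPrime F Nat.prime_three c))⟩)

theorem Out.of_iso {Y Z : Type*} [Group Y] [Group Z] (h : Out Z) (e : Y ≃* Z) : Out Y :=
  h.imp (fun ⟨K, a, b, c, ⟨f⟩⟩ => ⟨K, a, b, c, ⟨e.trans f⟩⟩)
    (Or.imp (fun ⟨f⟩ => ⟨e.trans f⟩) fun ⟨f⟩ => ⟨e.trans f⟩)

instance simple_M : IsSimpleGroup M :=
  haveI := H57.psl_isSimpleGroup_of_three_le (ι := Fin 3) (F := ZMod 3) (by simp)
  eM.symm.isSimpleGroup

theorem perf_M : commutator M = ⊤ := H57.sl_commutator_eq_top_of_three_le (by simp)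

theorem card_M : Nat.card M = 5616 := by
  have := H3.NSLU.card_psl_eq (ZMod 3) (n := 3) (by norm_num)
  rw [Nat.card_congr eM.toEquiv, ZMod.card] at this
  generalize Nat.card M = n at this ⊢
  simpa [Finset.prod_range_succ] using this

theorem card_aut : Nat.card (MulAut M) = 11232 := by
  obtain ⟨φ, h1, -, h2⟩ := Cfsg.Agent.S2601.result (F := ZMod 3) (p := 3) (f := 1) (n := 3) le_rfl
    (by simp) le_rfl
  have h3 := card_eq_card_quotient_mul_card_subgroup φ.ker
  rw [Nat.card_congr (QuotientGroup.quotientKerEquivOfSurjective φ h1).toEquiv, h2] at h3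
  rw [← Nat.card_congr (MulAut.congr eM).toEquiv, H56.card_mulAut_eq _ (by
    haveI := H57.psl_isSimpleGroup_of_three_le (ι := Fin 3) (F := ZMod 3) (by simp)
    rw [← card_eq_one, H73.D8W.card_center eM, center_M, card_bot]), h3,
    Nat.card_congr eM.toEquiv, card_M]
  simp

theorem inj_of_ne {S : Type*} [Group S] (ρ : M →* S) (h : ∃ m, ρ m ≠ 1) : Function.Injective ρ :=
  (MonoidHom.ker_eq_bot_iff ρ).1 ((inferInstance : ρ.ker.Normal).eq_bot_or_eq_top.resolve_right
    fun k => h.elim fun m hm => hm (k.ge (mem_top m)))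

/-- `L₃(3)` lifts through central extensions. -/
theorem exists_lift {S Y : Type*} [Group S] [Group Y] (f : S →* Y) (hk : f.ker ≤ center S)
    (η : M →* Y) (hi : Function.Injective η) (hr : η.range ≤ f.range) :
    ∃ ρ : M →* S, Function.Injective ρ ∧ ∀ m, f (ρ m) = η m := by
  let B := η.range.comap f
  let e := (MonoidHom.ofInjective hi).symm
  let g : B →* M := e.toMonoidHom.comp ((f.comp B.subtype).codRestrict η.range fun b => b.2)
  have eg : ∀ b, η (g b) = f b := fun b =>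
    congrArg Subtype.val ((MonoidHom.ofInjective hi).apply_symm_apply ⟨f b, b.2⟩)
  have gs : Function.Surjective g := fun m => by
    obtain ⟨s, hs⟩ := hr ⟨m, rfl⟩
    exact ⟨⟨s, m, hs.symm⟩, hi ((eg _).trans hs)⟩
  have gk : ∀ k, g k = 1 → k ∈ center B := fun k h => mem_center_iff.2 fun b => Subtype.ext
    (mem_center_iff.1 (hk (show f k = 1 by rw [← eg, h, map_one])) b)
  obtain ⟨P, p1, p2⟩ := H55.A7R.exists_lift g gs gk (A := ⊤) perf_M
  let τ := g.comp P.subtype
  have ts : Function.Surjective τ := fun m => by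
    obtain ⟨b, hb, e⟩ := p2.ge (mem_top m)
    exact ⟨⟨b, hb⟩, e⟩
  have tk : τ.ker = ⊥ := by
    have := H21.ker_eq_bot_of_trivialMultiplier (by
      simpa using Cfsg.Agent.S2086.result (F := ZMod 3) (q := 3) (by simp) 3 (by norm_num)
        (by norm_num) (by simp)) (eM.symm.toMonoidHom.comp τ)
      ⟨eM.symm.surjective.comp ts, fun k hk => mem_center_iff.2 fun b => Subtype.ext
        (mem_center_iff.1 (gk k.1 (eM.symm.injective (hk.trans (map_one _).symm))) b), by
        rw [show commutator P = ⊤ from map_injective P.subtype_injective (by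
          rw [map_subtype_commutator, p1, ← MonoidHom.range_eq_map, range_subtype])]
        exact le_top⟩
    exact le_bot_iff.1 fun k hk => this.le (by
      rw [MonoidHom.mem_ker, MonoidHom.comp_apply, MonoidHom.mem_ker.1 hk, map_one])
  let i := MulEquiv.ofBijective τ ⟨(MonoidHom.ker_eq_bot_iff τ).1 tk, ts⟩
  refine ⟨B.subtype.comp (P.subtype.comp i.symm.toMonoidHom), B.subtype_injective.comp
    (P.subtype_injective.comp i.symm.injective), fun m => ?_⟩
  exact (eg _).symm.trans (congrArg η (i.apply_symm_apply m))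

theorem exists_q8 (F : Type*) [Field F] [Fintype F] :
    ∃ i j : SL(2, F), i * i = -1 ∧ j * j = -1 ∧ i * j * i⁻¹ = j⁻¹ := by
  obtain ⟨p, hp⟩ := CharP.exists F
  have : Fact p.Prime := ⟨CharP.char_is_prime F p⟩
  obtain ⟨a, b, h⟩ := CharP.sq_add_sq F p (-1)
  push_cast at h
  let i : SL(2, F) := ⟨!![0, 1; -1, 0], by simp [Matrix.det_fin_two]⟩
  let j : SL(2, F) := ⟨!![a, b; b, -a], by rw [Matrix.det_fin_two_of]; linear_combination -h⟩
  have e1 : j * j = -1 := Subtype.ext (by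
    change j.1 * j.1 = -1
    ext s t; fin_cases s <;> fin_cases t <;> simp [j, Matrix.mul_apply, Fin.sum_univ_two] <;>
      first | linear_combination h | ring)
  have e2 : j * i * j = i := Subtype.ext (by
    change j.1 * i.1 * j.1 = i.1
    ext s t; fin_cases s <;> fin_cases t <;> simp [i, j, Matrix.mul_apply, Fin.sum_univ_two] <;>
      first | linear_combination h | linear_combination -h | ring)
  refine ⟨i, j, Subtype.ext ?_, e1, ?_⟩
  · change i.1 * i.1 = -1
    ext s t; fin_cases s <;> fin_cases t <;> simp [i, Matrix.mul_apply, Fin.sum_univ_two]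
  · rw [mul_inv_eq_iff_eq_mul, eq_inv_mul_iff_mul_eq, ← mul_assoc, e2]

variable {Y : Type*} [Group Y] {σ : MulAut Y} {A : Subgroup Y}

theorem qs_of (e : A ≃* M) : IsQuasisimple A :=
  H14.quasi_of_mulEquiv ⟨⟨perf_M⟩, H57.psl_isSimpleGroup_of_three_le (by simp)⟩ e.symm

theorem Cf.qs (h : Cf σ A) : IsQuasisimple A := h.ty.elim qs_of

theorem Cf.card (h : Cf σ A) : Nat.card A = 5616 := h.ty.elim fun e => (Nat.card_congr e.toEquiv).trans card_M

theorem hom_of (h : Nonempty (A ≃* M)) : ∃ η : M →* Y, Function.Injective η ∧ η.range = A := by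
  obtain ⟨e⟩ := h
  refine ⟨A.subtype.comp e.symm.toMonoidHom, A.subtype_injective.comp e.symm.injective, ?_⟩
  rw [MonoidHom.range_comp, MonoidHom.range_eq_top.2 e.symm.surjective, ← MonoidHom.range_eq_map,
    range_subtype]

theorem Cf.congr {Z : Type*} [Group Z] (e : Y ≃* Z) (h : Cf σ A) :
    Cf (MulAut.congr e σ) (A.map e.toMonoidHom) := by
  have i := A.equivMapOfInjective e.toMonoidHom e.injective
  obtain ⟨t⟩ := h.ty
  refine ⟨by rw [← map_mul, h.sq, map_one], (map_ne_one_iff _ (MulAut.congr e).injective).2 h.ne,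
    ⟨i.symm.trans t⟩, ?_, fun y hy => ?_, fun k c hc h1 h2 => ?_⟩
  · rintro _ ⟨a, ha, rfl⟩
    simp [h.fix a ha]
  · obtain ⟨y, rfl⟩ := e.surjective y
    exact le_normalizer_map e.toMonoidHom ⟨y, h.nor y (by simpa using hy), rfl⟩
  · obtain ⟨c, rfl⟩ := e.surjective c
    rw [h.par (fun y m => k (e y) (by ext; simp [m])) c
      (fun a ha => e.injective (by simpa using hc (e a) ⟨a, ha, rfl⟩)) (by simpa using h1)
      (e.injective (by simpa using h2)), map_one]

theorem Free.of_iso {Z : Type*} [Group Z] (h : Free Z) (e : Y ≃* Z) : Free Y := fun A ⟨t⟩ =>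
  h _ ⟨(A.equivMapOfInjective e.toMonoidHom e.injective).symm.trans t⟩

/-- The action of the fixed points on `A`. -/
theorem Cf.act (h : Cf σ A) {X : Type*} [Group X] (ψ : X →* Y) (hψ : ∀ x, σ (ψ x) = ψ x) :
    ∃ f : X →* MulAut M, ∀ x, f x = 1 → ψ x ∈ centralizer (A : Set Y) := by
  obtain ⟨e⟩ := h.ty
  refine ⟨(MulAut.congr e).toMonoidHom.comp (A.normalizerMonoidHom.comp
    (ψ.codRestrict _ fun x => h.nor _ (hψ x))), fun x hx a ha => ?_⟩
  have k := (map_eq_one_iff _ (MulAut.congr e).injective).1 hx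
  exact (mul_inv_eq_iff_eq_mul.1 (congrArg Subtype.val (DFunLike.congr_fun k ⟨a, ha⟩))).symm

theorem Cf.not_bg (h : Cf σ A) (o : ∀ y, σ ≠ MulAut.conj y) : ¬ Bg σ := by
  rintro ⟨X, _, _, ψ, s, i, ev, nd, fx⟩
  obtain ⟨f, hf⟩ := h.act ψ fx
  rcases (inferInstance : f.ker.Normal).eq_bot_or_eq_top with k | k
  · exact nd (card_aut ▸ card_dvd_of_injective f ((MonoidHom.ker_eq_bot_iff f).1 k))
  obtain ⟨x, hx⟩ := exists_prime_orderOf_dvd_card' (G := X) 2 ev.two_dvd
  have := h.par o _ (hf x (k.ge (mem_top x))) (fx x) (by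
    rw [← map_mul, ← pow_two, ← hx, pow_orderOf_eq_one, map_one])
  rw [i (this.trans (map_one ψ).symm), orderOf_one] at hx
  omega

theorem no32 (R : Subgroup (MulAut M)) (c : Nat.card R = 32) (e4 : ∀ r ∈ R, r * r * (r * r) = 1) :
    False := by
  haveI : Finite (MulAut M) := Nat.finite_of_card_ne_zero (by rw [card_aut]; norm_num)
  have i : ¬ 2 ∣ R.index := by
    have := R.card_mul_index
    rw [c, card_aut] at this
    omega
  let P : Sylow 2 (MulAut M) := (IsPGroup.of_card (n := 5) c).toSylow i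
  have o : orderOf (MulAut.conj b8) ∣ 2 ^ 3 := orderOf_dvd_of_pow_eq_one (by
    rw [← map_pow, show b8 ^ 2 ^ 3 = 1 by decide +kernel, map_one])
  obtain ⟨n, -, hn⟩ := (Nat.dvd_prime_pow Nat.prime_two).1 o
  obtain ⟨P', hP⟩ := (IsPGroup.of_card ((Nat.card_zpowers _).trans hn)).exists_le_sylow
  obtain ⟨g, rfl⟩ := MulAction.exists_smul_eq (MulAut M) P P'
  obtain ⟨r, hr, e⟩ := hP (mem_zpowers _)
  have e' : g * r * g⁻¹ = MulAut.conj b8 := e
  have : MulAut.conj (b8 * b8 * (b8 * b8)) = 1 := by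
    rw [map_mul, map_mul, ← e', conj_mul, conj_mul, e4 r hr, mul_one, mul_inv_cancel]
  have k : b8 * b8 * (b8 * b8) * e1 ≠ e1 * (b8 * b8 * (b8 * b8)) := by decide +kernel
  exact k (mul_inv_eq_iff_eq_mul.1 (DFunLike.congr_fun this e1))

abbrev QQ := QuaternionGroup 2 × QuaternionGroup 2

open QuaternionGroup in
theorem qq : (∀ p : QQ, p * p * (p * p) = 1) ∧ ((a 2, a 2) : QQ) ^ 2 = 1 ∧ ((a 2, a 2) : QQ) ≠ 1 ∧
    ∀ p : QQ, p = 1 ∨ p = (a 2, a 2) ∨
      (p = (a 2, 1) ∨ ∃ r ∈ [a 1, xa 0], p * (r, 1) * p⁻¹ * (r, 1)⁻¹ = (a 2, 1)) ∨ p = (1, a 2) ∨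
        ∃ r ∈ [a 1, xa 0], p * (1, r) * p⁻¹ * (1, r)⁻¹ = (1, a 2) := by decide +kernel

open QuaternionGroup in
theorem Cf.not_qq (h : Cf σ A) (o : ∀ y, σ ≠ MulAut.conj y) (θ : QQ →* Y) (fx : ∀ p, σ (θ p) = θ p)
    (m1 : θ (a 2, 1) ≠ 1) (m2 : θ (1, a 2) ≠ 1) : False := by
  obtain ⟨f, hf⟩ := h.act θ fx
  obtain ⟨e4, q1, q2, d⟩ := qq
  have k1 : f.ker ≤ zpowers (a 2, a 2) := fun p hp => by
    have c := hf p hp
    have c2 := h.par o _ (mul_mem c c) (by rw [map_mul, fx]) (by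
      rw [← map_mul, ← map_mul, e4, map_one])
    have c1 := h.par o _ c (fx p) c2
    have k : ∀ r, θ (p * r * p⁻¹ * r⁻¹) = 1 := fun r => by simp [c1]
    rcases d p with e | e | (e | ⟨r, -, e⟩) | e | ⟨r, -, e⟩
    · exact e ▸ one_mem _
    · exact e ▸ mem_zpowers _
    · exact absurd (e ▸ c1) m1
    · exact absurd ((congrArg θ e).symm.trans (k _)) m1
    · exact absurd (e ▸ c1) m2
    · exact absurd ((congrArg θ e).symm.trans (k _)) m2
  have k2 := card_le_of_le k1
  rw [Nat.card_zpowers, orderOf_eq_prime q1 q2] at k2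
  have k3 := card_eq_card_quotient_mul_card_subgroup f.ker
  rw [Nat.card_congr (QuotientGroup.quotientKerEquivRange f).toEquiv, Nat.card_prod,
    Nat.card_eq_fintype_card, QuaternionGroup.card] at k3
  have k4 := f.range.card_subgroup_dvd_card
  rw [card_aut] at k4
  refine no32 f.range ?_ ?_
  · have := Nat.card_pos (α := f.ker)
    obtain e | e : Nat.card f.ker = 1 ∨ Nat.card f.ker = 2 := by omega
    · rw [show Nat.card f.range = 64 by rw [e] at k3; omega] at k4
      norm_num at k4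
    · rw [e] at k3; omega
  · rintro _ ⟨p, rfl⟩
    rw [← map_mul, ← map_mul, e4, map_one]

open QuaternionGroup in
theorem Cf.not_qs (h : Cf σ A) (o : ∀ y, σ ≠ MulAut.conj y) : ¬ QS σ := by
  rintro ⟨K, _, _, φ, ψ, -, cm, ng, n1, f1, f2⟩
  obtain ⟨i, j, ii, jj, ij⟩ := exists_q8 K
  obtain ⟨q, q2⟩ : ∃ q : QuaternionGroup 2 →* SL(2, K), q (a 2) = -1 :=
    ⟨H83.quaternionHom (n := 2) j i (by
      rw [show 2 * 2 = 2 + 2 from rfl, pow_add, pow_two, jj, H61.sl_neg_one_mul_self])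
      (by rw [ii, pow_two, jj]) ij, (H83.quaternionHom_a j i _ _ _ 2).trans (by rw [zpow_two, jj])⟩
  obtain ⟨θ, θv⟩ : ∃ θ : QQ →* Y, ∀ u v, θ (u, v) = φ (q u) * ψ (q v) :=
    ⟨(φ.comp q).noncommCoprod (ψ.comp q) fun _ _ => cm _ _, fun _ _ => rfl⟩
  exact h.not_qq o θ (fun ⟨u, v⟩ => by rw [θv, map_mul, f1, f2])
    (by rwa [θv, q2, map_one, map_one, mul_one, ng]) (by rwa [θv, q2, map_one, map_one, one_mul])

end H94.L3
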