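import Cfsg.Agent.H94.TEK
import Cfsg.Agent.H48.SgFa

/-! STD-2E6, slot CA: automorphisms of `X` that fix `W`, `Q`, `P₀ ∩ P₀`. -/

set_option autoImplicit false
set_option maxHeartbeats 400000
set_option linter.unusedSectionVars false

namespace H94.TE

open Cfsg.Lie H63 H65 H64 H64.SG H68 H46.SF Subgroup H78.TE

variable {F K : Type} [Field F] [Field K] [Finite K] [CharP K 2] {T : Qd F K}

theorem conj_ph (ζ : YY K) : T.ph * MulAut.conj ζ = MulAut.conj (T.ph ζ) * T.ph := by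
  refine MulEquiv.ext fun g => ?_
  rw [MulAut.mul_apply, MulAut.mul_apply, MulAut.conj_apply, MulAut.conj_apply, map_mul, map_mul,
    map_inv]

theorem cW (hK : T.KB) (hB : T.BR) (hY : T.CY) (β : MulAut T.X) (h : ∀ g ∈ T.W, β g = g) :
    ∃ ζ ∈ T.W, β = MulAut.conj ζ := by
  obtain ⟨α, h1, h2⟩ := hB.ext β
  obtain ⟨ζ, hζ, h3⟩ := hY α fun g hg => by rw [← h1, h g hg]
  have h4 : MulAut.conj ζ = MulAut.conj (T.ph ζ) := by
    rcases h3 with rfl | rfl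
    · rw [conj_ph] at h2
      exact mul_right_cancel h2
    · rw [← mul_assoc, conj_ph] at h2
      exact mul_right_cancel (mul_right_cancel h2)
  have h5 : T.ph ζ = ζ := by
    have := (H48.SgFa.jobFA E6 e6 K).cen (ζ⁻¹ * T.ph ζ) (by
      rw [map_mul, map_inv, ← h4, inv_mul_cancel])
    exact (inv_mul_eq_one.1 this).symm
  refine ⟨⟨ζ, h5⟩, (hK.gtY _ clW _).2 hζ, MulEquiv.ext fun g => Subtype.ext ?_⟩
  rw [h1]
  rcases h3 with rfl | rfl
  · rfl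
  · rw [MulAut.mul_apply, show T.ph g = g from g.2]; rfl

theorem comm_of_fix {G : Type*} [Group G] {ζ g : G} (h : MulAut.conj ζ g = g) : ζ * g = g * ζ :=
  mul_inv_eq_iff_eq_mul.1 h

theorem cX (hC : T.CT) (hY : T.CY) (α : MulAut (YY K)) (h : ∀ g : T.X, α g = g) :
    α = 1 ∨ α = T.ph := by
  obtain ⟨ζ, hζ, h3⟩ := hY α fun g _ => h g
  have h1 : ∀ g : T.X, ζ * g = g * ζ := fun g => comm_of_fix (by
    rcases h3 with rfl | rfl
    · exact h g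
    · have := h g
      rwa [MulAut.mul_apply, show T.ph g = g from g.2] at this)
  have h2 : ζ ∈ gY K SZ := ctY0 hC (P := SQ) clW.1 clZ.1 (by decide +kernel) (by decide +kernel)
    (by decide +kernel) (by decide +kernel) hζ fun s _ a => h1 _
  have h4 : gY K SZ ≤ XR E6 (xG E6 K) (R6 71) := gen_le_iff.2 fun r hr a => by
    have : ∀ r ∈ SZ, r = R6 71 := by decide +kernel
    rw [this r hr]; exact x_mem_XR _ _ _ _
  have st := (stY K).toStN.toSt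
  obtain ⟨a, rfl⟩ := st.mem_XR.1 (h4 h2)
  have h5 := e6.conj_add st (su_add (r := lr (R4 9)) (s := R6 71) (by decide +kernel)) (T.ι 1) a
  have h6 : xG E6 K (R6 71) a * xG E6 K (lr (R4 9)) (T.ι 1) =
      xG E6 K (lr (R4 9)) (T.ι 1) * xG E6 K (R6 71) a := h1 (T.x 9 1)
  rw [← h6, mul_inv_cancel_right, left_eq_mul] at h5
  have h7 := (stY K).eq_zero_of_x_eq_one _ h5
  rw [map_one, one_mul] at h7
  rw [h7, xE_zero, map_one, one_mul] at h3
  exact h3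

variable [CharP F 2]

/-- An element of `gt S`, `S` a set of two or three long roots. -/
theorem prod3 (hK : T.KB) {S : Set (Rt E6)} (hS : Cl S) (r s t : Rt D4)
    (h1 : [lr r, lr s, lr t].Nodup) (h2 : ∀ v ∈ [lr r, lr s, lr t], v ∈ S)
    (h3 : ∀ v ∈ S, v ∈ [lr r, lr s, lr t] ∨ gm v ∈ [lr r, lr s, lr t]) {g : T.X} (hg : g ∈ T.gt S) :
    ∃ a b c, g = T.x r a * T.x s b * T.x t c := by
  obtain ⟨u, rfl⟩ := hK.prod S hS _ h1 h2 h3 g hg
  obtain ⟨a, ha⟩ := xs_lr' (T := T) r (u (lr r))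
  obtain ⟨b, hb⟩ := xs_lr' (T := T) s (u (lr s))
  obtain ⟨c, hc⟩ := xs_lr' (T := T) t (u (lr t))
  exact ⟨a, b, c, by
    rw [List.map_cons, List.map_cons, List.map_cons, List.map_nil, List.prod_cons, List.prod_cons,
      List.prod_cons, List.prod_nil, mul_one, ha, hb, hc, mul_assoc]⟩

theorem prod2 (hK : T.KB) {S : Set (Rt E6)} (hS : Cl S) (r s : Rt D4)
    (h1 : [lr r, lr s].Nodup) (h2 : ∀ v ∈ [lr r, lr s], v ∈ S)
    (h3 : ∀ v ∈ S, v ∈ [lr r, lr s] ∨ gm v ∈ [lr r, lr s]) {g : T.X} (hg : g ∈ T.gt S) :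
    ∃ a b, g = T.x r a * T.x s b := by
  obtain ⟨u, rfl⟩ := hK.prod S hS _ h1 h2 h3 g hg
  obtain ⟨a, ha⟩ := xs_lr' (T := T) r (u (lr r))
  obtain ⟨b, hb⟩ := xs_lr' (T := T) s (u (lr s))
  exact ⟨a, b, by
    rw [List.map_cons, List.map_cons, List.map_nil, List.prod_cons, List.prod_cons,
      List.prod_nil, mul_one, ha, hb]⟩

theorem cp1 (hK : T.KB) (hC : T.CT) (hB : T.BR) (hY : T.CY) (β : MulAut T.X)
    (h : ∀ g ∈ T.P0 (R4 23) ⊓ T.P0 (R4 22), β g = g) :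
    ∃ a b, β = MulAut.conj (T.x (R4 23) a * T.x (R4 22) b) := by
  have k : ∀ s ∈ SA, 0 ≤ ip (lr (R4 23)) s ∧ 0 ≤ ip (lr (R4 22)) s := by decide +kernel
  have hA : T.A ≤ T.P0 (R4 23) ⊓ T.P0 (R4 22) :=
    T.gt_le.2 fun s hs u => ⟨xs_P0 hK (k s hs).1 u, xs_P0 hK (k s hs).2 u⟩
  have hW : T.W ≤ T.A := T.gt_mono (fun r => by revert r; decide +kernel)
  obtain ⟨ζ, hζ, rfl⟩ := cW hK hB hY β fun g hg => h g (hA (hW hg))
  have h2 : ζ ∈ T.El := ctX0 hK hC (P := SA) clW clE (by decide +kernel) (by decide +kernel)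
    (by decide +kernel) (by decide +kernel) hζ fun s hs a => comm_of_fix (h _ (hA (T.xs_mem hs a)))
  obtain ⟨a, b, rfl⟩ := prod2 hK clE (R4 23) (R4 22) (by decide +kernel) (by decide +kernel)
    (by decide +kernel) h2
  exact ⟨a, b, rfl⟩

theorem cp0 (hK : T.KB) (hC : T.CT) (hB : T.BR) (hY : T.CY) (β : MulAut T.X)
    (h : ∀ g ∈ T.P0 (R4 17) ⊓ T.P0 (R4 20), β g = g) :
    ∃ a b, β = MulAut.conj (T.x (R4 17) a * T.x (R4 20) b) := by
  have hA : T.gt {s | 36 ≤ s.1 ∧ 0 ≤ ip (lr (R4 17)) s ∧ 0 ≤ ip (lr (R4 20)) s} ≤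
      T.P0 (R4 17) ⊓ T.P0 (R4 20) :=
    T.gt_le.2 fun s hs u => ⟨xs_P0 hK hs.2.1 u, xs_P0 hK hs.2.2 u⟩
  have hW : T.W ≤ T.gt {s | 36 ≤ s.1 ∧ 0 ≤ ip (lr (R4 17)) s ∧ 0 ≤ ip (lr (R4 20)) s} :=
    T.gt_mono (fun r => by revert r; decide +kernel)
  obtain ⟨ζ, hζ, rfl⟩ := cW hK hB hY β fun g hg => h g (hA (hW hg))
  have cl : Cl {r : Rt E6 | r.1 = 65 ∨ r.1 = 69 ∨ r.1 = 71} := by decide +kernel
  have h2 : ζ ∈ T.gt {r : Rt E6 | r.1 = 65 ∨ r.1 = 69 ∨ r.1 = 71} :=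
    ctX0 hK hC (P := {s | 36 ≤ s.1 ∧ 0 ≤ ip (lr (R4 17)) s ∧ 0 ≤ ip (lr (R4 20)) s}) clW cl
      (by decide +kernel) (by decide +kernel) (by decide +kernel) (by decide +kernel) hζ
      fun s hs a => comm_of_fix (h _ (hA (T.xs_mem hs a)))
  obtain ⟨a, b, c, rfl⟩ := prod3 hK cl (R4 17) (R4 20) (R4 23) (by decide +kernel)
    (by decide +kernel) (by decide +kernel) h2
  have m1 : T.x (R4 9) 1 ∈ T.P0 (R4 17) := x_P0 hK (by decide +kernel) 1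
  have m2 : T.x (R4 9) 1 ∈ T.P0 (R4 20) := x_P0 hK (by decide +kernel) 1
  have h3 := comm_of_fix (h _ ⟨m1, m2⟩)
  rw [← mul_assoc, ← mul_assoc, ← mem_P0.1 m1 a, mul_assoc (T.x (R4 17) a) _ (T.x (R4 20) b),
    ← mem_P0.1 m2 b, ← mul_assoc, mul_assoc, mul_assoc _ (T.x (R4 9) 1), mul_right_inj] at h3
  have h5 := e4.conj_add hK.st (r := R4 9) (s := R4 23) (u := R4 22)
    (lr_add.2 (add_iff.2 (by decide +kernel))) 1 c
  rw [← h3, mul_inv_cancel_right, left_eq_mul, one_mul] at h5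
  refine ⟨a, b, ?_⟩
  rw [hK.inj _ c h5, hK.st.x_zero, mul_one]

theorem cp_move {r s r' s' : Rt D4} (hK : T.KB) (e : D4.pairing r' s' = D4.pairing r s)
    (h0 : ∀ β : MulAut T.X, (∀ g ∈ T.P0 r' ⊓ T.P0 s', β g = g) →
      ∃ a b, β = MulAut.conj (T.x r' a * T.x s' b)) (β : MulAut T.X)
    (h : ∀ g ∈ T.P0 r ⊓ T.P0 s, β g = g) : ∃ a b, β = MulAut.conj (T.x r a * T.x s b) := by
  obtain ⟨n, w, hn, e1, e2⟩ := hK.tr2 r' s' r s e
  obtain ⟨a, b, hab⟩ := h0 ((MulAut.conj n)⁻¹ * β * MulAut.conj n) fun g hg => by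
    rw [MulAut.mul_apply, MulAut.mul_apply, MulAut.conj_apply,
      h _ ⟨(lf_P0 hn e1).2 hg.1, (lf_P0 hn e2).2 hg.2⟩, MulAut.conj_inv_apply]
    group
  refine ⟨a, b, ?_⟩
  rw [← Qd.Lf.x T hn e1, ← Qd.Lf.x T hn e2, conj_mul, map_mul, map_mul, ← hab, map_inv]
  group

theorem jobCA : JobCA := by
  intro F K _ _ _ _ _ _ T hK hC _ hB hY
  refine ⟨cW hK hB hY, fun β h => ?_, cX hC hY, fun r s e => ?_⟩
  · have hW : T.W ≤ T.Q := T.gt_mono (fun r => by revert r; decide +kernel)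
    obtain ⟨ζ, hζ, rfl⟩ := cW hK hB hY β fun g hg => h g (hW hg)
    have h2 : ζ ∈ T.gt SZ := ctX0 hK hC (P := SQ) clW clZ (by decide +kernel) (by decide +kernel)
      (by decide +kernel) (by decide +kernel) hζ fun s hs a => comm_of_fix (h _ (T.xs_mem hs a))
    rw [hK.gtZ] at h2
    obtain ⟨c, rfl⟩ := hK.st.mem_XR.1 h2
    exact ⟨c, rfl⟩
  · rcases e with e | e
    · exact cp_move hK (e ▸ by decide +kernel) (cp0 hK hC hB hY)
    · exact cp_move hK (e ▸ by decide +kernel) (cp1 hK hC hB hY)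

end H94.TE
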