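import Cfsg.Agent.H94.TEK

/-! STD-2E6, slot PB: the structure of the centraliser of a long root subgroup. -/

set_option autoImplicit false
set_option maxHeartbeats 400000
set_option linter.unusedSectionVars false

namespace H94.TE

open Cfsg.Lie H63 H65 H64 H64.SG H68 H46.SF Subgroup H78.TE
open scoped commutatorElement

variable {F K : Type} [Field F] [Field K] [Finite K] [CharP K 2] [CharP F 2] {T : Qd F K}

theorem perfP (hK : T.KB) : T.gt SP ≤ ⁅T.gt SP, T.gt SP⁆ := by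
  have k : ∀ r ∈ SP, ∃ s ∈ SP, ∃ s' ∈ SP, ip s s' = -1 ∧ 0 ≤ ip s (gm s') ∧ su s s' = r := by
    decide +kernel
  refine T.gt_le.2 fun r hr u => ?_
  obtain ⟨s, hs, s', hs', h1, h2, rfl⟩ := k r hr
  have h3 := hK.cs s s' h1 h2 u 1
  rw [mul_one] at h3
  have h4 : T.xs (su s s') u = ⁅(T.xs s' 1)⁻¹, T.xs s u⁆ := by
    rw [commutatorElement_def, inv_inv, mul_assoc, mul_assoc, ← mul_assoc (T.xs s u), h3,
      inv_mul_cancel_left]
  rw [h4]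
  exact commutator_mem_commutator (inv_mem (T.xs_mem hs' _)) (T.xs_mem hs _)

theorem SP_nrm (hK : T.KB) : T.gt SP ≤ Ns T.Q :=
  T.gt_le.2 fun r hr u => hK.nrm SQ clQ r (by revert r; decide +kernel) u

theorem q0P (hK : T.KB) (hT : T.TB) : IsO2 T.Q (T.gt SP) := by
  have hQU : T.Q ≤ T.U := T.gt_mono (fun r => by revert r; decide +kernel)
  have hUP : T.U ≤ T.gt SP := T.gt_mono (fun r => by revert r; decide +kernel)
  refine ⟨hQU.trans hUP, SP_nrm hK, hK.isP.to_le hQU, fun D h1 h2 h3 g hg => ?_⟩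
  have hD : D ≤ T.U := le_syl hT.syl le_top h3 (hUP.trans h2)
  obtain ⟨n, hn, w, hw, e⟩ := hK.lfw [R6 39, R6 44, R6 60]
  have hn' : n ∈ T.gt SP := T.gt_mono (fun r => by revert r; decide +kernel) hn
  have hL : T.gt {r | 36 ≤ r.1 ∧ a2 r = 0} ≤ T.gt SP :=
    T.gt_mono (fun r => by revert r; decide +kernel)
  refine levi_kill hK hw (S₀ := {r | 36 ≤ r.1 ∧ a2 r = 0}) (fun r => ?_) (fun r => ?_)
    (hL.trans (SP_nrm hK)) ?_ (hD ((mem_normalizer_iff.1 (h2 hn') g).1 hg))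
  · rw [e]; revert r; decide +kernel
  · rw [e]; revert r; decide +kernel
  · refine (T.gt_le.2 fun r hr u => ?_ : T.U ≤ _) (hD hg)
    have k : ∀ r ∈ SU, (36 ≤ r.1 ∧ a2 r = 0) ∨ r ∈ SQ := by decide +kernel
    rcases k r hr with k | k
    exacts [mem_sup_left (T.xs_mem k u), mem_sup_right (T.xs_mem k u)]

theorem p3P (hK : T.KB) : T.gt SP ≤ (T.P0 (R4 22) ⊓ T.P0 (R4 14)) ⊔
    gen (XR D4 T.x) {w | 0 ≤ D4.pairing (R4 23) w} := by
  have k : ∀ r ∈ SP, gm r = r ∨ (0 ≤ ip (lr (R4 22)) r ∧ 0 ≤ ip (lr (R4 14)) r) ∨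
      ∃ a : Rt D4, lr a ∈ SP ∧ ∃ s, su (lr a) s = r ∧ gm s ≠ s ∧ ip (lr a) s = -1 ∧
        0 ≤ ip (lr (R4 22)) s ∧ 0 ≤ ip (lr (R4 14)) s ∧
        ∃ v : Rt D4, lr v = su (su (lr a) s) (gm s) ∧ lr v ∈ SP := by decide +kernel
  have k' : ∀ v : Rt D4, lr v ∈ SP → 0 ≤ D4.pairing (R4 23) v := by decide +kernel
  refine T.gt_le.2 fun r hr u => ?_
  rcases k r hr with h | h | ⟨a, h4, s, rfl, h1, h2, h6, h7, v, h3, h5⟩
  · obtain ⟨v, c, rfl, e⟩ := xs_long (T := T) h u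
    rw [e]
    exact mem_sup_right (x_mem_gen (k' v hr) c)
  · exact mem_sup_left ⟨xs_P0 hK h.1 u, xs_P0 hK h.2 u⟩
  · obtain ⟨m, hm⟩ := T.exists_nm u
    have e := hK.cj a v s h1 h2 h3 u m 1 hm
    rw [map_one, one_mul] at e
    have e2 : T.xs (su (lr a) s) u =
        (T.x a 1)⁻¹ * (T.xs s u * T.x a 1 * (T.xs s u)⁻¹) * (T.x v (1 * m))⁻¹ := by rw [e]; group
    have m1 := mem_sup_right (S := T.P0 (R4 22) ⊓ T.P0 (R4 14))
      (x_mem_gen (x := T.x) (S := {w | 0 ≤ D4.pairing (R4 23) w}) (k' a h4) 1)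
    have m2 := mem_sup_left (T := gen (XR D4 T.x) {w | 0 ≤ D4.pairing (R4 23) w})
      (S := T.P0 (R4 22) ⊓ T.P0 (R4 14)) ⟨xs_P0 hK h6 u, xs_P0 hK h7 u⟩
    rw [e2]
    exact mul_mem (mul_mem (inv_mem m1) (mul_mem (mul_mem m2 m1) (inv_mem m2)))
      (inv_mem (mem_sup_right (x_mem_gen (k' v h5) _)))

theorem jobPB : JobPB := by
  intro F K _ _ _ _ _ _ T hK hT hA
  refine ⟨hA.p0 ▸ perfP hK, hA.p0 ▸ q0P hK hT, fun r s v h g hg => ?_⟩
  obtain ⟨n, w, hn, e1, e2⟩ := hK.tr2 (R4 22) (R4 14) r s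
    ((e4.pairing_of_add h).symm ▸ by decide +kernel)
  have e3 : w.1 (lr (R4 23)) = lr v := by
    have h1 : rt (lr (R4 23)) = rt (lr (R4 22)) + rt (lr (R4 14)) := add_iff.2 (by decide +kernel)
    have h2 := W_add w h1
    rw [e1, e2, ← lr_add.1 h] at h2
    exact rt_inj h2
  have h4 : n⁻¹ * g * n ∈ T.gt SP := by
    rw [← hA.p0, hi4, ← lf_P0 hn e3]
    simpa only [mul_assoc, mul_inv_cancel_left, mul_inv_cancel, mul_one] using hg
  have h5 : (T.P0 (R4 22) ⊓ T.P0 (R4 14)) ⊔ gen (XR D4 T.x) {w | 0 ≤ D4.pairing (R4 23) w} ≤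
      ((T.P0 r ⊓ T.P0 s) ⊔ gen (XR D4 T.x) {w | 0 ≤ D4.pairing v w}).comap
        (MulAut.conj n).toMonoidHom := by
    refine sup_le (fun y hy => mem_sup_left ⟨(lf_P0 hn e1).2 hy.1, (lf_P0 hn e2).2 hy.2⟩)
      (SG.gen_le_iff.2 fun a ha c => ?_)
    obtain ⟨b, hb⟩ := exists_lr (w.1 (lr a)) (by rw [← hn.1, gm_lr])
    rw [mem_comap, MulEquiv.coe_toMonoidHom, MulAut.conj_apply, Qd.Lf.x T hn hb.symm]
    refine mem_sup_right (x_mem_gen ?_ c)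
    change 0 ≤ D4.pairing v b
    rw [← ip_lr, hb, ← e3, ip_eq, W_pairing, ← ip_eq, ip_lr]
    exact ha
  have h6 := h5 (p3P hK h4)
  rw [mem_comap, MulEquiv.coe_toMonoidHom, MulAut.conj_apply] at h6
  simpa only [mul_assoc, mul_inv_cancel_left, mul_inv_cancel, mul_one] using h6

end H94.TE
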