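/- Tower FE (S1308), slot D0. -/
import Cfsg.Agent.H14.FESpec

set_option autoImplicit false

namespace H94.FE

open Cfsg Subgroup MulAction H14 H98 H1.Gold H31.S2 H14.GC H14.FE
open scoped commutatorElement

universe u

theorem step {p : ℕ → Prop} (h0 : p 0) {n : ℕ} (hn : ¬ p n) : ∃ k, p k ∧ ¬ p (k + 1) := by
  by_contra h
  exact hn (Nat.rec h0 (fun k ih => by_contra fun e => h ⟨k, ih, e⟩) n)

/-- descent along the lower central series -/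
theorem desc {H : Type u} [Group H] [Group.IsNilpotent H] {p : H → Prop} {x : H} (hx : p x) (h1 : ¬ p 1) :
    ∃ x, p x ∧ ∀ y, ¬ p ⁅x, y⁆ := by
  obtain ⟨n, hn⟩ := Subgroup.nilpotent_iff_lowerCentralSeries.1 ‹Group.IsNilpotent H›
  obtain ⟨k, ⟨w, w1, w2⟩, h⟩ := step (p := fun k => ∃ w ∈ (⊤ : Subgroup H).lowerCentralSeries k, p w)
    ⟨x, mem_top x, hx⟩ (n := n) (by rintro ⟨w, w1, w2⟩; rw [hn, mem_bot] at w1; exact h1 (w1 ▸ w2))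
  exact ⟨w, w2, fun y e => h ⟨_, commutator_mem_commutator w1 (mem_top y), e⟩⟩

theorem jobD0 : JobD0.{u} := by
  intro X _ _ Z Δ A pZ pΔ ab nz lt cA hv
  have : Fact (Nat.Prime 2) := ⟨Nat.prime_two⟩
  have cz : ∀ δ ∈ Δ, ∀ w ∈ Z, δ * w * δ⁻¹ ∈ Z := fun δ hδ w hw => (mem_normalizer_iff.1 (nz hδ) w).1 hw
  have pH : IsPGroup 2 (Z ⊔ Δ : Subgroup X) := pZ.to_sup_of_normal_left' pΔ nz
  have := pH.isNilpotent
  have := pΔ.isNilpotent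
  obtain ⟨x, x1, x2⟩ := SetLike.exists_of_lt lt
  obtain ⟨⟨w0, m0⟩, ⟨w1, w2⟩, w3⟩ := desc (H := (Z ⊔ Δ : Subgroup X)) (p := fun w => w.1 ∈ Z ∧ w.1 ∉ A)
    (x := ⟨x, mem_sup_left x1⟩) ⟨x1, x2⟩ fun h => h.2 (one_mem A)
  have sqc : ∀ δ ∈ Δ, ∀ w ∈ Z, w * w * δ * (w * w)⁻¹ * δ⁻¹ =
      (w * δ * w⁻¹ * δ⁻¹) * (w * δ * w⁻¹ * δ⁻¹) := fun δ hδ w hw => by
    have := ab _ (cz δ hδ _ (inv_mem hw)) w hw
    calc w * w * δ * (w * w)⁻¹ * δ⁻¹ = w * (w * (δ * w⁻¹ * δ⁻¹)) * (δ * w⁻¹ * δ⁻¹) := by group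
      _ = _ := by rw [← this]; group
  have pw : ∀ j : ℕ, ∀ δ ∈ Δ, w0 ^ 2 ^ j * δ * (w0 ^ 2 ^ j)⁻¹ * δ⁻¹ ∈ A := fun j δ hδ => by
    induction j with
    | zero =>
      rw [pow_zero, pow_one]
      by_contra e
      refine w3 ⟨δ, mem_sup_right hδ⟩ ⟨?_, e⟩
      have := mul_mem w1 (cz δ hδ _ (inv_mem w1))
      rw [← mul_assoc, ← mul_assoc] at this
      exact this
    | succ j ih =>
      rw [pow_succ, pow_mul, sq, sqc δ hδ _ (pow_mem w1 _)]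
      exact mul_mem ih ih
  obtain ⟨n, hn⟩ := pZ ⟨w0, w1⟩
  have hn' : w0 ^ 2 ^ n = 1 := congrArg Subtype.val hn
  obtain ⟨j, j1, j2⟩ := step (p := fun j => w0 ^ 2 ^ j ∉ A) (by simpa using w2) (n := n)
    (by rw [hn', not_not]; exact one_mem A)
  obtain ⟨w, hw⟩ : ∃ w, w = w0 ^ 2 ^ j := ⟨_, rfl⟩
  have wZ : w ∈ Z := hw ▸ pow_mem w1 _
  have φ : ∀ δ ∈ Δ, w * δ * w⁻¹ * δ⁻¹ ∈ A := hw ▸ pw j
  rw [not_not, pow_succ, pow_mul, sq, ← hw] at j2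
  rw [← hw] at j1
  intro d hd
  by_contra d2
  have dw : Commute (d * d) w := by
    have h1 := sqc d hd w wZ
    rw [cA _ j2 d hd, mul_inv_cancel_right, mul_inv_cancel] at h1
    have h2 := cA _ (φ d hd) d hd
    obtain ⟨a, ha⟩ : ∃ a, a = w * d * w⁻¹ * d⁻¹ := ⟨_, rfl⟩
    rw [← ha] at h1 h2
    have h3 : w * d * w⁻¹ = a * d := by rw [ha]; group
    refine (mul_inv_eq_iff_eq_mul.1 ?_ : w * (d * d) = d * d * w).symm
    calc w * (d * d) * w⁻¹ = (w * d * w⁻¹) * (w * d * w⁻¹) := by group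
      _ = a * (d * a) * d := by rw [h3]; group
      _ = d * d := by rw [← h2, ← mul_assoc, ← h1, one_mul]
  obtain ⟨v, ⟨v1, v2⟩, v3⟩ := desc (H := Δ) (p := fun v => v.1 ≠ 1 ∧ Commute v.1 w)
    (x := ⟨d * d, mul_mem hd hd⟩) ⟨d2, dw⟩ fun h => h.1 rfl
  refine j1 (hv v v.2 v1 (fun y hy => mem_centralizer_singleton_iff.2 ?_)
    ⟨wZ, mem_centralizer_singleton_iff.2 v2.eq.symm⟩)
  by_contra e
  refine v3 ⟨y, hy⟩ ⟨fun h => e (commutatorElement_eq_one_iff_mul_comm.1 h).symm, ?_⟩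
  have c1 : Commute (v : X) (w * y⁻¹ * w⁻¹ * y⁻¹⁻¹) := (cA _ (φ _ (inv_mem hy)) v v.2).symm
  have c2 := (v2.inv_right.mul_right c1).inv_inv.conj y
  have c3 : Commute (y * (v : X)⁻¹ * y⁻¹) w := by
    convert c2 using 1
    group
  have c4 := v2.mul_left c3
  rw [← mul_assoc, ← mul_assoc] at c4
  exact c4

end H94.FE
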