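import Cfsg.Agent.H48.DC4Spec

/-! S3275, chapter C4: the job `QE`. -/

set_option autoImplicit false

namespace H94.DC4

open Subgroup Cfsg H98 H48.DP H57.DPC H48.DP2
open scoped commutatorElement

universe u

variable {G : Type u} [Group G]

theorem eq_of_mem_zpowers {c x : G} (hc : c * c = 1) (hx : x ∈ zpowers c) : x = 1 ∨ x = c := by
  obtain ⟨k, rfl⟩ := mem_zpowers_iff.1 hx
  have h2 : c ^ (2 : ℤ) = 1 := by rw [zpow_two, hc]
  obtain ⟨j, rfl | rfl⟩ := Int.even_or_odd' k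
  · left; rw [zpow_mul, h2, one_zpow]
  · right; rw [zpow_add, zpow_mul, h2, one_zpow, one_mul, zpow_one]

/-- The words `(L M) ^ k L`. -/
def Wd (L M : Subgroup G) : ℕ → Set G
  | 0 => L
  | k + 1 => {g | ∃ l ∈ L, ∃ m ∈ M, ∃ g' ∈ Wd L M k, g = l * m * g'}

theorem wd_left {L M : Subgroup G} {l g : G} (hl : l ∈ L) :
    ∀ {k : ℕ}, g ∈ Wd L M k → l * g ∈ Wd L M k
  | 0, h => L.mul_mem hl h
  | _ + 1, ⟨l', hl', m, hm, g', hg', e⟩ =>
    ⟨l * l', L.mul_mem hl hl', m, hm, g', hg', by rw [e]; group⟩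

theorem wd_right {L M : Subgroup G} {l m : G} (hl : l ∈ L) (hm : m ∈ M) :
    ∀ {k : ℕ} {g : G}, g ∈ Wd L M k → g * m * l ∈ Wd L M (k + 1)
  | 0, g, h => ⟨g, h, m, hm, l, hl, rfl⟩
  | _ + 1, _, ⟨l', hl', m', hm', g', hg', e⟩ =>
    ⟨l', hl', m', hm', g' * m * l, wd_right hl hm hg', by rw [e]; group⟩

theorem wd_inv {L M : Subgroup G} : ∀ {k : ℕ} {g : G}, g ∈ Wd L M k → g⁻¹ ∈ Wd L M k
  | 0, _, h => L.inv_mem h
  | _ + 1, _, ⟨l, hl, m, hm, g', hg', e⟩ => by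
    have := wd_right (L.inv_mem hl) (M.inv_mem hm) (wd_inv hg')
    rwa [show g'⁻¹ * m⁻¹ * l⁻¹ = (l * m * g')⁻¹ by group, ← e] at this

theorem jobQE : JQE.{u} := by
  intro bk G _ _ M Q J L W y z u n n' hB hV hW hQL
  have nn : n * n = 1 := by rw [← pow_two, ← hV.n2, pow_orderOf_eq_one]
  have hJQ : J ≤ Q := hB.lt.JQ
  have hWJ : W ≤ J := fun w hw => (hW.le hw).1
  have hMQ : M ≤ No Q := hB.bd.no.ge
  have hLJ : L ≤ No J := hB.lt.LN
  have hn : n = n' := by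
    have h1 : n * n' ∈ Om J := mul_mem hV.nJ (hW.le hW.mem)
    have h2 : n * n' ∈ Om Q := ⟨hJQ h1.1, centralizer_le hQL hW.nn, h1.2.2⟩
    rw [hV.om] at h2
    rcases eq_of_mem_zpowers nn h2 with h | h
    · exact (mul_left_cancel (h.trans nn.symm)).symm
    · exact absurd (mul_eq_left.1 h) hW.ne
  subst hn
  have hz : ∀ g : G, cj g (zpowers n) = zpowers (g * n * g⁻¹) := fun g => MonoidHom.map_zpowers _ n
  have hWQ : ⁅W, Q⁆ ≤ zpowers n := by
    rw [← hW.com]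
    exact commutator_mono hW.le (le_inf le_rfl hQL)
  have hcj : ∀ g : G, ⁅cj g W, cj g Q⁆ ≤ zpowers (g * n * g⁻¹) := fun g => by
    rw [← cj_commutator, ← hz]
    exact cj_mono g hWQ
  have hM : ∀ m ∈ M, cj m W ≤ J := fun m hm t ht => by
    refine bk G M Q J L W y z u n n t hB hW (hQL (cj_le_of_le (hWJ.trans hJQ) (hMQ hm) ht)) ?_
    have h1 := hcj m
    have h2 : m * n * m⁻¹ = n := by
      rw [mem_centralizer_singleton_iff.1 (hV.cn.ge hm), mul_inv_cancel_right]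
    rw [cj_eq_self (hMQ hm), h2, commutator_comm] at h1
    exact (commutator_mono hJQ (zpowers_le.2 ht)).trans (h1.trans (zpowers_le.2 hW.mem))
  have hS : ∀ (k : ℕ) (g : G), g ∈ Wd L M k → cj g W ≤ J := by
    intro k
    induction k with
    | zero => intro g hg; rw [cj_eq_self (hW.nor hg)]; exact hWJ
    | succ k ih =>
      have key : ∀ g ∈ Wd L M (k + 1), ∃ l ∈ L, cj g W ≤ cj l Q := by
        rintro _ ⟨l, hl, m, hm, g', hg', rfl⟩
        refine ⟨l, hl, ?_⟩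
        rw [← cj_cj, ← cj_cj]
        exact cj_mono l (cj_le_of_le ((ih g' hg').trans hJQ) (hMQ hm))
      intro g hg
      obtain ⟨l, hl, h1⟩ := key g hg
      obtain ⟨l', hl', h2⟩ := key g⁻¹ (wd_inv hg)
      have h3 : ⁅W, cj g W⁆ ≤ zpowers (l * n * l⁻¹) := by
        refine le_trans (commutator_mono ?_ h1) (hcj l)
        rw [cj_eq_self (hW.nor hl)]
      have h4 : ⁅cj g W, W⁆ ≤ zpowers (g * l' * n * (g * l')⁻¹) := by
        refine le_trans (commutator_mono ?_ ?_) (hcj (g * l'))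
        · rw [← cj_cj, cj_eq_self (hW.nor hl')]
        · rw [← cj_cj, le_cj_iff]
          exact h2
      rw [commutator_comm] at h4
      have hsq : ∀ a : G, a * n * a⁻¹ * (a * n * a⁻¹) = 1 := fun a => by
        rw [show a * n * a⁻¹ * (a * n * a⁻¹) = a * (n * n) * a⁻¹ by group, nn]; group
      by_cases h0 : ⁅W, cj g W⁆ = ⊥
      · rw [← hW.cW]
        refine le_inf (h1.trans (cj_le_of_le_of_mem hQL hl)) ?_
        rw [commutator_comm] at h0
        exact commutator_eq_bot_iff_le_centralizer.1 h0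
      · obtain ⟨⟨x, hx⟩, x1⟩ := ne_bot_iff_exists_ne_one.1 h0
        have x1' : x ≠ 1 := fun e => x1 (Subtype.ext e)
        have e1 := (eq_of_mem_zpowers (hsq l) (h3 hx)).resolve_left x1'
        have e2 := (eq_of_mem_zpowers (hsq (g * l')) (h4 hx)).resolve_left x1'
        have hm : l⁻¹ * (g * l') ∈ M := by
          refine hV.cn.le (mem_centralizer_singleton_iff.2 ?_)
          calc l⁻¹ * (g * l') * n = l⁻¹ * (g * l' * n * (g * l')⁻¹) * (g * l') := by group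
            _ = l⁻¹ * (l * n * l⁻¹) * (g * l') := by rw [← e2, e1]
            _ = n * (l⁻¹ * (g * l')) := by group
        have e3 : g = l * (l⁻¹ * (g * l') * l'⁻¹) := by group
        rw [e3, ← cj_cj, ← cj_cj, cj_eq_self (hW.nor (L.inv_mem hl'))]
        exact cj_le_of_le (hM _ hm) (hLJ hl)
  let N : Subgroup G := ⨆ g ∈ {g | ∃ k, g ∈ Wd L M k}, cj g W
  have hNJ : N ≤ J := iSup₂_le fun g ⟨k, hk⟩ => hS k g hk
  have hle : ∀ g k, g ∈ Wd L M k → cj g W ≤ N := fun g k hk =>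
    le_iSup₂_of_le (f := fun g (_ : g ∈ {g | ∃ k, g ∈ Wd L M k}) => cj g W) g ⟨k, hk⟩ le_rfl
  have hnor : ∀ a : G, (∀ g k, g ∈ Wd L M k → ∃ k', a * g ∈ Wd L M k') → a ∈ No N := fun a ha => by
    refine mem_normalizer_of_cj_le ?_
    rw [cj_le_iff]
    refine iSup₂_le fun g ⟨k, hk⟩ => ?_
    obtain ⟨k', hk'⟩ := ha g k hk
    rw [← cj_le_iff, cj_cj]
    exact hle _ k' hk'
  have hN : N ≠ ⊥ := fun e => by
    have h1 := hle 1 0 L.one_mem
    rw [cj_one, e] at h1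
    exact hW.ne (mem_bot.1 (h1 hW.mem))
  refine hB.lt.out (le_trans (fun l hl => hnor l fun g k hk => ⟨k, wd_left hl hk⟩)
    (hB.nM N (hB.j2.to_le hNJ) hN fun m hm => hnor m fun g k hk =>
      ⟨k + 1, 1, L.one_mem, m, hm, g, hk, by rw [one_mul]⟩))

end H94.DC4
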