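import Cfsg.Agent.H48.DNASpec
import Cfsg.Agent.H29.DPFs

/-! S3275, chapter alpha: the job `T3a`. -/

set_option autoImplicit false

namespace H94.DN

open Subgroup Cfsg H98 H48.DP H57.DPC H48.DP2
open scoped commutatorElement

universe u

theorem jobT3a : JT3a.{u} := by
  intro G _ _ S W y z r h
  have : Fact (Nat.Prime 3) := ⟨Nat.prime_three⟩
  have hy : y ∈ Ce (pCoreOf 3 (⊤ : Subgroup G)) := fun a ha =>
    mem_centralizer_singleton_iff.1 (h.cy (h.syl.pCoreOf_le ha))
  have : (Ce (pCoreOf 3 (⊤ : Subgroup G))).Normal :=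
    normal_of_top_le_normalizer (le_normalizer_centralizer (self_le_normalizer_pCoreOf ⊤))
  have hW : W ≤ Ce (pCoreOf 3 (⊤ : Subgroup G)) :=
    h.com.ge.trans ((commutator_mono le_rfl (zpowers_le.2 hy)).trans (commutator_le_right _ _))
  obtain ⟨L, hL, h1⟩ : ∃ L : Subgroup G, IsComponentOf L ⊤ ∧ ¬ W ≤ Ce L := by
    by_contra e
    push Not at e
    exact h.nt (H29.DPF.jobFs G h.str.nd ⊤ W h.str.o2 le_top h.W2 hW e)
  have cm := (h.str.cm L hL).2
  have hcp := H14.cp_iff.mpr hL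
  have hS := h.syl.inf_subN hcp.1
  have hne : S ⊓ L ≠ ⊥ := fun e => by
    obtain ⟨-, -, w, hw, -, -, w3, -⟩ := cm.sm.loc
    have h2 := hS.eq_of_le (Q := zpowers w)
      (isPGroup_zpowers (k := 1) (by rw [pow_one, ← w3, pow_orderOf_eq_one]))
      (e.le.trans bot_le) (zpowers_le.2 hw)
    rw [e, zpowers_eq_bot] at h2
    rw [h2, orderOf_one] at w3
    exact absurd w3 (by decide)
  obtain ⟨⟨e, he⟩, e1⟩ := ne_bot_iff_exists_ne_one.1 hne
  have key : ∀ g : G, e ∈ C1 g → g ∈ No L := fun g hg => by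
    refine cj_eq_self_iff.1 (((hcp.cj_of_mem_normalizer (le_normalizer (mem_top g))).eq_or_commute
      hcp).resolve_right fun h0 => e1 (Subtype.ext ?_))
    have h2 : e ∈ H98.cj g L := by
      have := conj_mem_cj (g := g) he.2
      rwa [← mem_centralizer_singleton_iff.1 hg, mul_inv_cancel_right] at this
    exact mem_bot.1 (cm.sm.cen.le ⟨he.2, commutator_eq_bot_iff_le_centralizer.1 h0 h2⟩)
  exact ⟨L, hL, h1, key y (h.cy he.1), key z (h.cz he.1)⟩

end H94.DN
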