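import Cfsg.Agent.H51.C2C
import Cfsg.Agent.H51.GoldHub

/-! Two strongly closed elementary abelian `2`-subgroups are normal modulo the core. -/

set_option autoImplicit false

namespace H94.YE

open Cfsg Subgroup H14 H98 H1.Gold H55.GL

universe u

variable {G : Type u} [Group G] [Finite G] {H T A B : Subgroup G}

omit [Finite G] in
theorem elem_of (e : ∀ a ∈ A, a * a = 1) : IsElementaryAbelian 2 A :=
  ⟨⟨⟨fun a b => Subtype.ext (by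
    have := e _ (mul_mem a.2 b.2)
    calc (a : G) * b = ((a : G) * b)⁻¹ := (inv_eq_of_mul_eq_one_right this).symm
      _ = _ := by
        rw [mul_inv_rev, inv_eq_of_mul_eq_one_right (e _ a.2),
          inv_eq_of_mul_eq_one_right (e _ b.2)]; rfl)⟩⟩, fun a ha => by rw [pow_two, e a ha]⟩

theorem astar (hT : IsSyl 2 T H) (hA : A ≤ T) (eA : ∀ a ∈ A, a * a = 1)
    (sA : ∀ a ∈ A, ∀ h ∈ H, h * a * h⁻¹ ∈ T → h * a * h⁻¹ ∈ A) : AStar (H55.GL.bar H A) := by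
  have h1 := hT.subgroupOf le_rfl
  rw [subgroupOf_self] at h1
  exact H51.asThm _ (opp_Qt _) _ ((sc_of_stronglyClosed h1.toSylowTop
    ⟨comap_mono hA, fun a ha g hg => sA a ha g g.2 hg⟩).map _ pq_surjective)
    (elem_bar (elem_of eA)).1

theorem bar_cen (hT : IsSyl 2 T H) (hA : A ≤ T) (hB : B ≤ T) (cA : A ⊓ cen B ≤ B) :
    H55.GL.bar H A ⊓ cen (H55.GL.bar H B) ≤ H55.GL.bar H B := by
  rintro _ ⟨⟨a, ha, rfl⟩, h⟩
  refine pq_mem_bar (cA ⟨ha, fun b hb => ?_⟩)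
  have := h _ (pq_mem_bar (x := ⟨b, hT.le (hB hb)⟩) hb)
  rw [← map_mul, ← map_mul] at this
  exact pq_inj hT.isPGroup (mul_mem (hB hb) (hA ha)) (mul_mem (hA ha) (hB hb)) this

theorem two_sc (hT : IsSyl 2 T H) (hA : A ≤ T) (hB : B ≤ T) (eA : ∀ a ∈ A, a * a = 1)
    (eB : ∀ a ∈ B, a * a = 1) (sA : ∀ a ∈ A, ∀ h ∈ H, h * a * h⁻¹ ∈ T → h * a * h⁻¹ ∈ A)
    (sB : ∀ a ∈ B, ∀ h ∈ H, h * a * h⁻¹ ∈ T → h * a * h⁻¹ ∈ B) (cA : A ⊓ cen B ≤ B)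
    (cB : B ⊓ cen A ≤ A) (d : A ⊓ B ≤ ⁅A, B⁆) :
    H ≤ opp 2 H ⊔ (H ⊓ nor A) ∧ H ≤ opp 2 H ⊔ (H ⊓ nor B) := by
  obtain ⟨n1, n2⟩ := H51.C2.jobGA _ _ _ (astar hT hA eA sA) (astar hT hB eB sB)
    ((isPGroup_bar hT.isPGroup).to_le (sup_le (H55.GL.bar_mono hA) (H55.GL.bar_mono hB)))
    (elem_bar (elem_of eA)).2 (elem_bar (elem_of eB)).2 (elem_bar (elem_of eA)).1
    (elem_bar (elem_of eB)).1 (bar_cen hT hA hB cA) (bar_cen hT hB hA cB) (by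
      rw [← H55.GL.bar_commutator (hA.trans hT.le) (hB.trans hT.le)]
      rintro _ ⟨⟨a, ha, rfl⟩, h⟩
      exact pq_mem_bar (d ⟨ha, (H51.C2.mem_bar_iff hT.isPGroup hB (hA ha)).1 h⟩))
  exact ⟨H51.C2.le_of_bar_normal (hT.isPGroup.to_le hA) (hA.trans hT.le) n1,
    H51.C2.le_of_bar_normal (hT.isPGroup.to_le hB) (hB.trans hT.le) n2⟩

end H94.YE
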