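import Cfsg.Agent.H54.YSSpec

/-! STD-SP endgame, slot `RB`: small facts on `Q = O₂(P)`. -/

set_option autoImplicit false
set_option linter.unusedSectionVars false

namespace H94.YS

open H64.SG (O2 Syl Cz Cs Ns cjs Is2 Inv2 IsO2 fx)
open Subgroup H67.SP H64.YE H54.YS
open H67.UA hiding Par Base FV FW
open H67.SA (cm St la)
open H86.SPI (ac_TT EE_mul' EE_sq hf_self)

variable {n : ℕ} {K : Type} [Field K] [StarRing K] [TrivialStar K] [CharP K 2] [Finite K]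
  [p : Par n K] [Base n K] [KT n K]

theorem h10 : hf (ev 1 : Vn n K) (ev 0) = 0 := by
  have := p.five
  rw [hf_ev, if_neg]
  intro h
  have := congrArg Fin.val h
  rw [Fin.val_rev, H54.SPF.v1 p.five] at this
  simp at this
  omega

theorem hr0 : hf (ev (1 : Fin (n + 1)).rev : Vn n K) (ev 0) = 0 := by
  rw [hf_ev, Fin.rev_rev, if_neg]
  intro h
  have := congrArg Fin.val h
  rw [H54.SPF.v1 p.five] at this
  simp at this

theorem hr1 : hf (ev (1 : Fin (n + 1)).rev : Vn n K) (ev 1) = 1 := by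
  rw [hf_ev, Fin.rev_rev, if_pos rfl]

theorem ne01 (h5 : 5 ≤ n) : (1 : Fin (n + 1)) ≠ 0 := fun h => by
  have := congrArg Fin.val h
  rw [H54.SPF.v1 h5] at this
  simp at this

theorem li01 : Li (ev 0 : Vn n K) (ev 1) := by
  by_contra h
  obtain ⟨a, ha⟩ := (KT.nli _).1 h
  have := congrFun ha 1
  rw [Pi.smul_apply, ev_apply, ev_apply, if_pos rfl, if_neg (ne01 p.five), smul_zero] at this
  exact one_ne_zero this

theorem EE_inv' {u v : Vn n K} (h : hf v u = 0) (c : K) : (EE u v c)⁻¹ = EE u v c :=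
  inv_eq_of_mul_eq_one_right (EE_sq h c)

theorem nli0 : ¬ Li (ev 0 : Vn n K) 0 := (KT.nli _).2 ⟨0, (zero_smul _ _).symm⟩

theorem t_mem : (TT (ev 1) : XU n K) ∈ PP n K := by
  rw [mem_Stab, ac_TT, hf_symm h10, zero_smul, add_zero]

theorem jobRB : JobRB := by
  intro n K _ _ _ _ _ p _ _ _ _
  refine ⟨fun x hx y hy hx' hy' => ?_, ⟨TT (ev 1), ?_, EE_sq (hf_zero_left _) 1, fun h => ?_⟩,
    ⟨TT (ev 1), t_mem, EE (ev 0) (ev 1) 0, (FV.mem_Qv _ _).2 ⟨_, _, h10, rfl⟩,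
      EE (ev 0) (ev (1 : Fin (n + 1)).rev) 0, (FV.mem_Qv _ _).2 ⟨_, _, hr0, rfl⟩, ?_, ?_, ?_⟩,
    fun x hx => ?_⟩
  · obtain ⟨u, c, hu, rfl⟩ := (FV.mem_Qv _ _).1 hx
    obtain ⟨v, d, hv, rfl⟩ := (FV.mem_Qv _ _).1 hy
    rw [KT.ez _ _ hu, not_not] at hx'
    rw [KT.ez _ _ hv, not_not] at hy'
    obtain ⟨g, hg, e⟩ := KT.tp u v hu hv hx' hy'
    refine ⟨g, hg, ?_⟩
    rw [EE_conj (FV.ok _ _ _ hu), mem_Stab.1 hg, e, EE_inv' hv, EE_mul' hv hv, v_add_self,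
      KT.ez _ _ (hf_zero_left _)]
    exact nli0
  · refine (FV.mem_U _).2 fun j v hv i hi => ?_
    rw [ac_TT, add_right_comm, v_add_self, zero_add, Pi.smul_apply, ev_apply, hf_ev_right]
    split_ifs with h
    · have := p.five
      rw [hv _ (by rw [Fin.val_rev, H54.SPF.v1 p.five]; rw [h, H54.SPF.v1 p.five] at hi; omega), zero_smul]
    · exact smul_zero _
  · obtain ⟨u, c, hu, e⟩ := (FV.mem_Qv _ _).1 h
    have h1 := ac_EE_perp (FV.ok _ _ c hu) (hr0 (n := n) (K := K))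
    rw [← e, ac_TT, hr1, one_smul, add_right_inj] at h1
    exact (KT.nli _).2 ⟨_, h1⟩ li01
  · rw [KT.ez _ _ h10, not_not]; exact li01
  · rw [cm, EE_conj (FV.ok _ _ _ h10), mem_Stab.1 t_mem, ac_TT, hf_self, zero_smul, add_zero,
      mul_inv_cancel]
    exact one_mem _
  · rw [cm, EE_conj (FV.ok _ _ _ hr0), mem_Stab.1 t_mem, ac_TT, hr1, one_smul, EE_inv' hr0,
      EE_mul' (by rw [hf_add_left, hr0, h10, add_zero]) hr0, add_right_comm, v_add_self, zero_add,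
      KT.ez _ _ h10, not_not]
    exact li01
  · obtain ⟨u, c, hu, rfl⟩ := (FV.mem_Qv _ _).1 hx
    exact EE_sq hu c

end H94.YS
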