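import Cfsg.Agent.H57.U2CSpec
import Cfsg.Agent.H48.DP3Kit

/-! S3275, chapter U2F: the job `NO`. -/

set_option autoImplicit false

namespace H94.U2C

open Subgroup Cfsg H98 H48.DP H57.DPC H48.DP2 H57.U2C
open scoped commutatorElement

universe u

variable {G : Type u} [Group G]

theorem idx_two [Finite G] {V T R : Subgroup G} (h : V ≤ T) (h2 : R.relIndex T = 2) (hn : ¬ V ≤ R) :
    R.relIndex V = 2 := by
  have h1 := relIndex_le_of_le_right (H := R) h (relIndex_ne_zero' _ _)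
  have h3 := relIndex_ne_zero' R V
  have h4 : R.relIndex V ≠ 1 := fun e => hn (relIndex_eq_one.1 e)
  omega

theorem jobNO : JobNO.{u} := by
  intro wk tp np ne n1 n2 n3 G _ _ M Q T R Q₀ F Y V y t h
  obtain ⟨hp, VR, cM, sT, far⟩ := np G M Q T R Q₀ F Y V y t h
  have hAK : T ⊔ Y ≤ T ⊔ F := sup_le_sup_left h.YF T
  have hPR : T ⊔ zpowers y ≤ No R := sup_le h.TR (zpowers_le.2 h.yR)
  have hyP : y ∈ T ⊔ zpowers y := mem_sup_right (mem_zpowers y)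
  have hRK : R ≤ T ⊔ F := h.RT.trans le_sup_left
  have hp' : ∀ g : G, Np (H98.cj g M) (H98.cj g Q) (H98.cj g (T ⊔ F)) (H98.cj g F) (H98.cj g V) :=
    fun g => (tp G M Q (T ⊔ F) F V 1 g).1 hp
  have up1 : ∀ g : G, g ∉ M → ¬ H98.cj g Q ≤ M := fun g hg e => hg (h.up g e)
  have up2 : ∀ g : G, g ∉ M → ¬ Q ≤ H98.cj g M := fun g hg e =>
    hg (M.inv_mem_iff.1 (h.up _ (H98.le_cj_iff.1 e)))
  obtain e | ⟨S, s1, s2, s3, g, hg, hgR, p, hpP, s4⟩ := wk G (T ⊔ Y) (T ⊔ zpowers y) R V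
    (h.RT.trans le_sup_left) hPR (hAK.trans hp.KU) far
  · exact e VR
  have c1 : ∀ a ∈ S, V ≤ Ce (H98.cj a V) := fun a ha => by
    by_cases hM : a ∈ M
    · exact cM a hM
    · exact ne G M Q _ F V _ _ _ _ _ hp (hp' a) (up1 a hM) (up2 a hM)
        ((s2 a ha).trans (H98.cj_mono a hAK)) ((H98.cj_le_iff.2 (s2 _ (s1 a ha))).trans hAK)
  have c2 : ∀ a ∈ S, V ≤ H98.cj a T := fun a ha v hv => by
    refine H98.mem_cj.2 (sT _ (H98.mem_cj.1 (s2 a ha hv)) ?_ (H98.mem_cj.1 ((H98.cj_centralizer a V).ge (c1 a ha hv))))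
    have := hp.ea.2 v hv
    rw [pow_two] at this
    rw [show a⁻¹ * v * a * (a⁻¹ * v * a) = a⁻¹ * (v * v) * a by group, this]
    group
  obtain ⟨v, hv, hvR⟩ := SetLike.not_le_iff_exists.1 hgR
  have hsT : g⁻¹ * v * g ∈ T := H98.mem_cj.1 (c2 g hg hv)
  have hsR : g⁻¹ * v * g ∉ R := fun e => hvR (H98.mem_cj.2 e)
  obtain ⟨e₀, he⟩ : ∃ e₀, e₀ = y⁻¹ * (g⁻¹ * v * g) * y := ⟨_, rfl⟩
  have eP : e₀ ∈ T ⊔ zpowers y :=
    he ▸ Subgroup.mul_mem _ (Subgroup.mul_mem _ (Subgroup.inv_mem _ hyP) (mem_sup_left hsT)) hyP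
  have eM : e₀ ∉ M := fun e => by
    have h1 := h.TM (h.RT (conj_mem_of_mem_normalizer' h.yR (h.inv _ hsT hsR)))
    have h2 := M.mul_mem (M.inv_mem (M.mul_mem e (M.inv_mem (h.TM hsT)))) h1
    have h3 : y * y ∈ M := by
      convert h2 using 1
      rw [he]; group
    have h4 : y = (y * y)⁻¹ := by
      rw [eq_inv_iff_mul_eq_one, ← pow_three_of h.y3, pow_three]
    exact h.yM (h4 ▸ M.inv_mem h3)
  have ev : v * (g * y) = g * y * e₀ := by rw [he]; group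
  have hcj : ∀ X : Subgroup G,
      H98.cj v (H98.cj (g * y) X) = H98.cj (g * y) (H98.cj e₀ X) := fun X => by
    rw [H98.cj_cj, H98.cj_cj, ev]
  have gM : g * y ∉ M := fun e => eM (by
    have := M.mul_mem (M.mul_mem (M.inv_mem e) (h.TM (h.RT (VR hv)))) e
    rwa [mul_assoc, ev, inv_mul_cancel_left] at this)
  have a1 : (V ⊓ H98.cj g R).relIndex V = 2 := by
    rw [inf_relIndex_left]
    exact idx_two (c2 g hg) (by rw [relIndex_cj, h.idx]) hgR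
  have a2 : V ⊓ H98.cj g R ≤ H98.cj (g * y) (T ⊔ F) := by
    refine inf_le_right.trans (le_trans ?_ (H98.cj_mono _ hRK))
    rw [← H98.cj_cj, H98.cj_eq_self h.yR]
  have a3 : v ∉ V ⊓ H98.cj g R := fun e => hvR e.2
  have a4 : H98.cj (g * y) V ≤ Ce (H98.cj v (H98.cj (g * y) V)) := by
    rw [hcj]
    exact (H98.cj_mono _ (c1 e₀ (s3 e₀ eP))).trans (H98.cj_centralizer _ _).le
  have a5 : ¬ H98.cj v (H98.cj (g * y) Q) ≤ H98.cj (g * y) M := by
    rw [hcj, H98.cj_le_cj_iff]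
    exact up1 e₀ eM
  have b1 := n1 G M Q _ F V _ _ _ _ _ _ v hp (hp' (g * y)) (up1 _ gM) (up2 _ gM) inf_le_left a1 a2
    hv a3 a4 a5
  have b2 : H98.cj (g * y) V ≤ H98.cj p T := by
    rw [H98.cj_le_iff, H98.cj_cj, mul_inv_rev]
    exact c2 _ (s4 _ (Subgroup.inv_mem _ hyP))
  have b3 : ¬ H98.cj (g * y) V ≤ R := fun e => b1 (e.trans hRK)
  have b4 : R.relIndex (H98.cj (g * y) V) = 2 :=
    idx_two b2 (by rw [← h.idx, ← relIndex_cj p R T, H98.cj_eq_self (hPR hpP)]) b3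
  obtain ⟨v', hv', hvR'⟩ := SetLike.not_le_iff_exists.1 b3
  have vP : v' ∈ T ⊔ zpowers y := H98.cj_le_of_le_of_mem le_sup_left hpP (b2 hv')
  have vM : v' ∉ M := fun e => by
    obtain ⟨s, hs, e' | e' | e'⟩ := h.pm v' vP
    · refine b1 (le_trans (fun w hw => ?_) (le_sup_left : T ≤ T ⊔ F))
      by_cases hw' : w ∈ R
      · exact h.RT hw'
      · exact (T.mul_mem_cancel_right (e' ▸ hs)).1
          (h.RT (mul_mem_of_idx b4.le hw hv' hw' hvR'))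
    · exact h.yM ((M.mul_mem_cancel_right (h.TM hs)).1 (e' ▸ e))
    · exact h.yM (M.inv_mem_iff.1 ((M.mul_mem_cancel_right (h.TM hs)).1 (e' ▸ e)))
  rcases n2 G M Q _ F V _ _ _ _ _ _ (H98.cj (g * y) V ⊓ R) v v' hp (hp' (g * y)) inf_le_left a1 a2
    hv a3 a4 a5 inf_le_left (by rw [inf_relIndex_left, b4]) (inf_le_right.trans hRK) hv'
    (fun e => hvR' e.2) (c1 v' (s3 v' vP)) (up1 v' vM) with k | k
  · exact n3 G M Q T R Q₀ F Y V y t h v' vP vM k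
  · rw [hcj, relIndex_cj] at k
    exact n3 G M Q T R Q₀ F Y V y t h e₀ eP eM k

end H94.U2C
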