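import Cfsg.Agent.H67.SPIII
import Cfsg.Agent.H72.SPFR

/-! STD-SP (row S3129), chapter III, slot `TB`: the product in `Q*_u`. -/

set_option autoImplicit false
set_option linter.unusedSectionVars false

namespace H94.SP3

open Matrix H57 Subgroup H67.UA H67.SP H72.SPF

universe u

variable {n : ℕ} {F : Type} [Field F] [StarRing F] [TrivialStar F] [CharP F 2] [Finite F] [FV n F]
  {G : Type u} [Group G] {e : XU n F →* G} {t : G} {τ : Vn n F → G} {β : F} {u v w x y z : Vn n F}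
  {m m' : XU n F}

theorem p3 (huv : hf u v = 0) (a : F) : P3 u v (a • u) :=
  ⟨huv, by rw [hr, hx, mul_zero], by rw [hr, hf_symm huv, mul_zero]⟩

theorem T_smul (a c : F) (u : Vn n F) : Tc c (a • u) = Tc (a ^ 2 * c) u := by
  rw [Tc_smul, nm, star_trivial, pow_two]

theorem T_add (a b : F) (u : Vn n F) : Tc a u * Tc b u = Tc (a + b) u :=
  (Tc_add (hx u) (star_trivial a) (star_trivial b)).symm

theorem T_inj (hu : u ≠ 0) {a b : F} (h : Tc a u = Tc b u) : a = b := by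
  have := Tc_eq_one hu (hx u) (star_trivial (a + b)) (by rw [← T_add, h, T_add, cc, Tc, EE_zero])
  rwa [CharTwo.add_eq_zero] at this

variable (e τ β) in
/-- The defect of additivity. -/
def Rl (u v w : Vn n F) (m : XU n F) : Prop :=
  sg e τ β u v * sg e τ β u w * sg e τ β u (v + w) = τ (rt ((1 + β) * hf v w) • u) * e m

theorem Rl.uniq (i : Function.Injective e) (a : Rl e τ β u v w m) (b : Rl e τ β u v w m') : m = m' :=
  i (mul_left_cancel (a.symm.trans b))

variable (h : RA e τ β)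
include h

theorem cjE (huv : hf u v = 0) (hx' : hf x u = 0) (c : F) :
    e (EE u x c) * sg e τ β u v = sg e τ β u v * e (Tc (β * hf v x) u) * e (EE u x c) := by
  rw [← mul_inv_eq_iff_eq_mul, h.toR1.toR0.sg_eqv, ac_EE_self (FV.ok _ _ _ hx'),
    ac_EE_perp (FV.ok _ _ _ hx') (hf_symm huv), h.sadd _ _ _ (p3 huv _), h.shift]

theorem cT (huv : hf u v = 0) (c : F) : e (Tc c u) * sg e τ β u v = sg e τ β u v * e (Tc c u) := by
  simpa using cjE h huv (hf_zero_left u) c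

theorem act (hc : ∀ g, t * e g = e g * t) (ht : Tt e τ t) (huw : hf u w = 0) (hy : hf y u = 0) (c : F) :
    sg e τ β u w * (t * e (EE u y c)) * (sg e τ β u w)⁻¹ =
      t * e (EE u (w + y) (c + (1 + β) * hf w y)) := by
  have k : sg e τ β u w * e (EE u y c) * (sg e τ β u w)⁻¹ = e (Tc (β * hf w y) u * EE u y c) := by
    rw [inv_eq_of_mul_eq_one_right (h.ssq _ _ huw), mul_assoc, cjE h huw hy, ← mul_assoc,
      ← mul_assoc, h.ssq _ _ huw, one_mul, map_mul]
  rw [← conj_mul, h.toR1.toR0.sv hc ht β u w huw, k, mul_assoc, ← map_mul,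
    mE' (hf_zero_left u) hy, mE' (hf_symm huw) (by rwa [zero_add]), zero_add y, hf_zero_right, hs y w]
  congr 3; ring

theorem ex (a : AW e t) (ht : Tt e τ t) (hu : u ≠ 0) (huv : hf u v = 0) (huw : hf u w = 0) :
    ∃ x c, hf x u = 0 ∧ Rl e τ β u v w (EE u x c) := by
  have hvw : hf u (v + w) = 0 := by rw [hf_add_right, huv, huw, add_zero]
  have f : ∀ (r : F) x c, hf x u = 0 → Commute (τ (r • u)) (e (EE u x c)) := fun r x c k =>
    (h.toR1.toR0.fix (by rw [ac_smul, ac_EE_self (FV.ok _ _ _ k)])).symm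
  have l : ∀ {v}, hf u v = 0 → Commute (τ u) (sg e τ β u v) := fun k => by
    simpa [Commute, SemiconjBy] using h.stau _ _ _ (p3 k 1)
  have g : ∀ x c, hf x u = 0 →
      Commute (sg e τ β u v * sg e τ β u w * sg e τ β u (v + w)) (e (EE u x c)) := fun x c k => by
    have q : ∀ {v}, hf u v = 0 → ∀ d, e (EE u x c) * e (Tc d u) * sg e τ β u v =
        sg e τ β u v * (e (EE u x c) * e (Tc (d + β * hf v x) u)) := fun {v} r d => by
      rw [mul_assoc, cT h r, ← mul_assoc, cjE h r k, mul_assoc, mul_assoc, ← map_mul, ← map_mul,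
        ← map_mul, mE' k (hf_zero_left u), mE' k (hf_zero_left u), mE' (hf_zero_left u) (by
          rwa [add_zero])]
      simp [add_comm, add_assoc]
    have := q huv 0
    rw [Tc, EE_zero, map_one, mul_one] at this
    rw [Commute, SemiconjBy, eq_comm, ← mul_assoc, ← mul_assoc, this, mul_assoc _ _ (sg e τ β u w),
      q huw, mul_assoc _ _ (sg e τ β u (v + w)), mul_assoc _ _ (sg e τ β u (v + w)), q hvw,
      hf_add_left, zero_add, ← mul_add, cc, Tc, EE_zero, map_one, mul_one, mul_assoc, mul_assoc]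
  obtain ⟨x, c, k1, k2⟩ := a.vQ ((τ (rt ((1 + β) * hf v w) • u))⁻¹ *
      (sg e τ β u v * sg e τ β u w * sg e τ β u (v + w))) u hu (by
    have k : ∀ a b c t : G, a * b * c * t * (a * b * c)⁻¹ = a * (b * (c * t * c⁻¹) * b⁻¹) * a⁻¹ :=
      fun a b c t => by group
    rw [← mul_inv_eq_iff_eq_mul, _root_.mul_inv_rev, inv_inv, mul_assoc _ _ t, ← mul_assoc,
      mul_assoc _⁻¹, k, h.toR1.toR0.sv a.cen ht β u _ hvw, act h a.cen ht huw (hf_symm hvw),
      add_comm v w, ← add_assoc, v_add_self, zero_add, act h a.cen ht huv (hf_symm huv), v_add_self,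
      hf_add_right, hx, hx, hs w v, mul_zero, add_zero, zero_add, zero_add, mul_assoc,
      inv_mul_eq_iff_eq_mul, ← eq_mul_inv_iff_mul_eq, ht, TT, T_smul, rt_sq, mul_one])
    fun x c k => ((f _ x c k).inv_left.mul_left (g x c k)).eq
  refine ⟨x, c, k1, k2.elim (fun k => inv_mul_eq_iff_eq_mul.1 k) fun k => ?_⟩
  have c1 : Commute (τ u) (τ (rt ((1 + β) * hf v w) • u)) := by
    have h1 := h.nadd 1 (rt ((1 + β) * hf v w)) u
    have h2 := h.nadd (rt ((1 + β) * hf v w)) 1 u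
    rw [one_smul] at h1 h2
    rw [Commute, SemiconjBy, h1, h2, add_comm (1 : F), mul_right_comm β]
  have c2 := c1.inv_right.mul_right (((l huv).mul_right (l huw)).mul_right (l hvw))
  have c3 := f 1 x c k1
  rw [one_smul] at c3
  rw [k, Commute, SemiconjBy, mul_assoc, ← c3.eq, ← mul_assoc, ← mul_assoc, mul_left_inj,
    ← mul_inv_eq_iff_eq_mul, ht, mul_eq_left, map_eq_one_iff _ a.inj] at c2
  exact absurd (Tc_eq_one hu (hx u) (star_one F) c2) one_ne_zero

theorem Rl.eqv (a : Rl e τ β u v w m) (g : XU n F) :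
    Rl e τ β (ac g u) (ac g v) (ac g w) (g * m * g⁻¹) := by
  rw [Rl, ← ac_add, ← h.toR1.toR0.sg_eqv, ← h.toR1.toR0.sg_eqv, ← h.toR1.toR0.sg_eqv, conj_mul,
    conj_mul, a, hf_ac, ← ac_smul, ← h.eqv, map_mul, map_mul, map_inv, conj_mul]

theorem Rl.add (a : Rl e τ β u v w m) (huv : hf u v = 0) (huw : hf u w = 0) (h1 : hf u z = 0)
    (h2 : hf v z = 0) (h3 : hf w z = 0) : Rl e τ β u (v + z) w m ∧ Rl e τ β u v (w + z) m := by
  have hvw : hf u (v + w) = 0 := by rw [hf_add_right, huv, huw, add_zero]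
  have k : sg e τ β u (v + w + z) = sg e τ β u z * sg e τ β u (v + w) := by
    rw [add_comm, h.sadd _ _ _ ⟨h1, hvw, by rw [hf_add_right, hf_symm h2, hf_symm h3, add_zero]⟩]
  have k' : sg e τ β u z * sg e τ β u w = sg e τ β u w * sg e τ β u z := by
    rw [← h.sadd _ _ _ ⟨h1, huw, hf_symm h3⟩, add_comm, h.sadd _ _ _ ⟨huw, h1, h3⟩]
  have q : ∀ g, sg e τ β u z * (sg e τ β u z * g) = g := fun g => by
    rw [← mul_assoc, h.ssq _ _ h1, one_mul]
  constructor
  · rw [Rl, add_right_comm, k, h.sadd _ _ _ ⟨huv, h1, h2⟩, hf_add_left, hf_symm h3, add_zero, ← a,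
      mul_assoc _ (sg e τ β u z), k', mul_assoc, mul_assoc, q, mul_assoc]
  · rw [Rl, ← add_assoc, k, h.sadd _ _ _ ⟨huw, h1, h3⟩, hf_add_right, h2, add_zero, ← a,
      mul_assoc, mul_assoc, q, mul_assoc]

theorem Rl.zero (huv : hf u v = 0) (huw : hf u w = 0) (hvw : hf v w = 0) :
    Rl e τ β u v w (Tc 0 u) := by
  rw [Rl, ← h.sadd _ _ _ ⟨huv, huw, hvw⟩, h.ssq _ _ (by rw [hf_add_right, huv, huw, add_zero]), hvw,
    mul_zero, show rt (0 : F) = 0 from sq_inj (by rw [rt_sq]; simp), zero_smul, h.zero, Tc, EE_zero,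
    map_one, mul_one]

variable [FW n F] [hp : H67.SP.Par n F]

omit h in
include hp in
theorem exz (hu : u ≠ 0) (huv : hf u v = 0) (huw : hf u w = 0) (hvw : hf v w ≠ 0) :
    ∃ z, hf u z = 0 ∧ hf v z = 0 ∧ hf w z = 0 ∧ ∀ a b : F, a • z = b • u → a = 0 := by
  have := hp.five
  obtain ⟨g, rfl, rfl, g3⟩ := FW.wh1 u v ((hf v w)⁻¹ • w) huv (by rw [hr, huw, mul_zero]) hu
    (by rw [hr, inv_mul_cancel₀ hvw])
  refine ⟨ac g (ev ⟨2, by omega⟩), ?_, ?_, ?_, fun a b k => ?_⟩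
  · rw [hf_ac, hfe, if_neg (by simp; omega)]
  · rw [hf_ac, hfe, v1 (F := F), if_neg (by simp; omega)]
  · refine (mul_eq_zero.1 ?_).resolve_left (inv_ne_zero hvw)
    rw [← hf_smul_left, ← g3, hf_ac, hfe, Fin.val_rev, v1 (F := F), if_neg (by simp; omega)]
  · rw [← ac_smul, ← ac_smul] at k
    simpa [ev_apply, Fin.ext_iff] using congrFun (ac_inj g k) ⟨2, by omega⟩

theorem exT (a : AW e t) (ht : Tt e τ t) (hu : u ≠ 0) (huv : hf u v = 0) (huw : hf u w = 0) :
    ∃ c, Rl e τ β u v w (Tc c u) := by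
  by_cases hvw : hf v w = 0
  · exact ⟨0, Rl.zero h huv huw hvw⟩
  obtain ⟨x, c, k, r⟩ := ex h a ht hu huv huw
  have key : ∀ g, ac g u = u → Rl e τ β u (ac g v) (ac g w) (EE u x c) →
      ∃ b : F, ac g x + x = b • u := fun g g1 g2 => by
    have := r.eqv h g
    rw [jE k, g1] at this
    exact iE hu (by rw [← g1, hf_ac, k]) k (this.uniq a.inj g2)
  have k1 : ∀ z, hf u z = 0 → hf v z = 0 → hf w z = 0 → hf x z = 0 := fun z h1 h2 h3 => by
    obtain ⟨b, hb⟩ := key (TT z) (by simp [aT, h1]) (by simpa [aT, h2, h3] using r)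
    rw [aT, add_right_comm, v_add_self, zero_add, one_mul] at hb
    have := congrArg (hf x) hb
    rwa [hr, hr, k, mul_zero, mul_self_eq_zero] at this
  obtain ⟨z, h1, h2, h3, h4⟩ := exz hu huv huw hvw
  have s : ∀ {y}, hf y z = 0 → ∀ c : F, hf y (c • z) = 0 := fun k c => by rw [hr, k, mul_zero]
  have k2 : hf x w = 0 := by
    obtain ⟨b, hb⟩ := key (EE w z 0) (by simp [aE (hf_symm h3), h1, huw]) (by
      simpa [aE (hf_symm h3), h2, h3, hx] using (r.add h huv huw (s h1 _) (s h2 _) (s h3 _)).1)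
    exact h4 _ b (by simpa [aE (hf_symm h3), k1 z h1 h2 h3, add_right_comm x] using hb)
  have k3 : hf x v = 0 := by
    obtain ⟨b, hb⟩ := key (EE v z 0) (by simp [aE (hf_symm h2), h1, huv]) (by
      simpa [aE (hf_symm h2), h2, h3, hx] using (r.add h huv huw (s h1 _) (s h2 _) (s h3 _)).2)
    exact h4 _ b (by simpa [aE (hf_symm h2), k1 z h1 h2 h3, add_right_comm x] using hb)
  obtain ⟨b, rfl⟩ := FW.dual u x hu fun y hy => by
    have := k1 (y + (hf y w / hf v w) • v + (hf y v / hf v w) • w)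
      (by simp [hf_add_right, hr, hf_symm hy, huv, huw])
      (by simp [hf_add_right, hr, hx, hvw, hs v y, cc])
      (by simp [hf_add_right, hr, hx, hvw, hs w y, hs w v, cc])
    simpa [hf_add_right, hr, k2, k3, hs x y] using this
  exact ⟨c, sh0 b u c ▸ r⟩

theorem exD (a : AW e t) (ht : Tt e τ t) : ∃ δ, ∀ u v w : Vn n F, u ≠ 0 → hf u v = 0 → hf u w = 0 →
    Rl e τ β u v w (Tc (δ * hf v w) u) := by
  have := hp.five
  have o1 : hf (ev 0 : Vn n F) (ev 1) = 0 := by rw [hfe, v1 (F := F), if_neg (by simp; omega)]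
  have o2 : ∀ c : F, hf (ev 0 : Vn n F) (c • ev (1 : Fin (n + 1)).rev) = 0 := fun c => by
    rw [hr, hfe, Fin.val_rev, v1 (F := F), if_neg (by simp; omega), mul_zero]
  choose f hf' using fun c : F => exT h a ht (ev_ne 0) o1 (o2 c)
  have key : ∀ u v w : Vn n F, u ≠ 0 → hf u v = 0 → hf u w = 0 → hf v w ≠ 0 →
      Rl e τ β u v w (Tc (f (hf v w)) u) := fun u v w hu huv huw hvw => by
    obtain ⟨g, g1, g2, g3⟩ := FW.wh1 u v ((hf v w)⁻¹ • w) huv (by rw [hr, huw, mul_zero]) hu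
      (by rw [hr, inv_mul_cancel₀ hvw])
    have := (hf' (hf v w)).eqv h g
    rwa [jT, ac_smul, g1, g2, g3, smul_smul, mul_inv_cancel₀ hvw, one_smul] at this
  refine ⟨f 1, fun u v w hu huv huw => ?_⟩
  by_cases hvw : hf v w = 0
  · rw [hvw, mul_zero]; exact Rl.zero h huv huw hvw
  obtain ⟨l, hl⟩ : ∃ l, l ^ 2 = hf v w := ⟨_, rt_sq _⟩
  have l0 : l ≠ 0 := by rintro rfl; exact hvw (by rw [← hl]; simp)
  have e1 : hf (l⁻¹ • v) (l⁻¹ • w) = 1 := by rw [hr, hf_smul_left, ← hl]; field_simp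
  have q : ∀ {v}, hf u v = 0 → hf u (l⁻¹ • v) = 0 := fun k => by rw [hr, k, mul_zero]
  have := key (l • u) (l⁻¹ • v) (l⁻¹ • w) (smul_ne_zero l0 hu) (by rw [hf_smul_left, q huv, mul_zero])
    (by rw [hf_smul_left, q huw, mul_zero]) (e1 ▸ one_ne_zero)
  rw [Rl, ← smul_add, h.sscal _ _ _ (q huv), h.sscal _ _ _ (q huw), h.sscal _ _ _ (q (by
    rw [hf_add_right, huv, huw, add_zero])), smul_inv_smul₀ l0, smul_inv_smul₀ l0, smul_inv_smul₀ l0,
    e1, T_smul, smul_smul, hl, mul_comm (hf v w)] at this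
  rwa [Rl, show rt ((1 + β) * hf v w) = rt ((1 + β) * 1) * l from sq_inj (by
    rw [mul_pow, rt_sq, rt_sq, hl, mul_one])]

theorem rb (a : AW e t) (ht : Tt e τ t) : ∃ δ, RB e τ β δ := by
  obtain ⟨δ, k⟩ := exD h a ht
  refine ⟨δ, fun u v w huv huw => ?_⟩
  have hvw : hf u (v + w) = 0 := by rw [hf_add_right, huv, huw, add_zero]
  by_cases hu : u = 0
  · have z : ∀ v, sg e τ β u v = 1 := fun v => by
      have h1 := h.sscal 0 0 v (hf_zero_left v)
      have h2 := h.shift 0 0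
      simp only [zero_smul, mul_zero, EE_zero, map_one] at h1 h2
      rw [hu, h1, h2]
    have := T_smul 0 (δ * hf v w) u
    rw [z, z, z, hu, smul_zero, h.zero, ← zero_smul F u, this]
    simp
  rw [eq_mul_inv_of_mul_eq (k u v w hu huv huw), inv_eq_of_mul_eq_one_right (h.ssq _ _ hvw),
    mul_assoc, cT h hvw, ← mul_assoc, h.stau _ _ _ (p3 hvw _)]

end H94.SP3

namespace H94.SP3

open Matrix H57 Subgroup H67.UA H67.SP H72.SPF

universe u

theorem jobTB : JobTB.{u} := by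
  intro n F _ _ _ _ _ hp G _ _ e t b _ a τ β h ht
  obtain ⟨δ, k⟩ := rb h a ht
  refine ⟨?_, δ, k⟩
  obtain ⟨v, w, -, -, h1, h2, -, -, h3, -⟩ := frame (ev_ne (0 : Fin (n + 1)) : (ev 0 : Vn n F) ≠ 0)
  replace h1 := hf_symm h1
  replace h2 := hf_symm h2
  have h4 : hf (ev 0) (v + w) = 0 := by rw [hf_add_right, h1, h2, add_zero]
  have k1 := k _ _ _ h1 h2
  have k2 := k _ _ _ h4 h2
  rw [hf_add_left, hx, add_zero, add_assoc, v_add_self, add_zero] at k2
  rw [h3, mul_one, mul_one] at k1 k2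
  have k3 := congrArg (· * sg e τ β (ev 0) w) k1
  simp only [mul_assoc] at k3 k2
  rw [h.ssq _ _ h2, cT h h2, ← mul_assoc (τ _), h.stau _ _ _ (p3 h2 _), mul_assoc, ← mul_assoc (sg _ _ _ _ _),
    k2, mul_assoc, mul_right_inj, mul_assoc, ← mul_assoc (e _), h.toR1.toR0.fix (by
      rw [aT, hf_smul_left, hx]; simp), mul_assoc, ← map_mul, T_add, cc, Tc, EE_zero, map_one, mul_one,
    h.sq, eq_comm, map_eq_one_iff _ a.inj, T_smul, rt_sq] at k3
  rcases mul_eq_zero.1 (Tc_eq_one (ev_ne 0) (hx _) (star_trivial _) k3) with r | r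
  exacts [.inr (CharTwo.add_eq_zero.1 r).symm, .inl r]

end H94.SP3
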