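import Cfsg.Agent.H67.SWDef
import Cfsg.Agent.H54.SPFA
import Cfsg.Agent.H72.SPFR
import Cfsg.Agent.H86.SPIKit

/-! STD-SP wreath endgame, slot `CL`: `U` is generated by involutions of the groups `Q_j`. -/

set_option autoImplicit false
set_option linter.unusedSectionVars false

namespace H94.SW

open H64.SG (O2 Syl Cz Cs Ns Is2 Inv2 UF IsO2 fx)
open H67.SA (St cI cm mem_St_of_finite)
open Subgroup H67.SP H67.SW
open H67.UA hiding Par
open H72.SPF (wadd wev wperp)
open H86.SPI (hf_comm hf_self)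

variable {n : ℕ} {F : Type} [Field F] [StarRing F] [TrivialStar F] [CharP F 2] [Finite F]

theorem wmono {k l : ℕ} {v : Vn n F} (h : Wk k v) (hk : k ≤ l) : Wk l v := fun i hi =>
  h i (hk.trans hi)

theorem wmap (σ : RingAut F) {k : ℕ} {v : Vn n F} : Wk k (fun i => σ (v i)) ↔ Wk k v :=
  forall₂_congr fun _ _ => map_eq_zero_iff σ σ.injective

theorem fs_add (σ : RingAut F) (g : XU n F) (v : Vn n F) :
    (ac (fs n F σ g) (fun i => σ (v i)) + fun i => σ (v i)) = fun i => σ ((ac g v + v) i) := by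
  rw [H54.SPF.fs_ac]; ext i; simp

theorem eq_add {u v w : Vn n F} (h : u + v = w) : u = v + w := by
  rw [← h, add_left_comm, v_add_self, add_zero]

variable [p : Par n F] [Base n F] {j : ℕ} {g : XU n F}

/-- An element that fixes `W_j` pointwise acts trivially on `V / W_j^⊥`. -/
theorem top (hj : j ≤ n + 1) (h : ∀ w, Wk j w → ac g w = w) (v : Vn n F) :
    Wk (n + 1 - j) (ac g v + v) := (FV.wk_perp j hj _).2 fun w hw => by
  rw [hf_add_left]
  conv_lhs => rw [← h w hw]
  rw [hf_ac, h w hw, CharTwo.add_self_eq_zero]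

theorem q_le (hj : 2 * j ≤ n + 1) : Qk n F j ≤ UU n F := fun g hg => by
  obtain ⟨h1, h2⟩ := (FV.mem_Qk j hj g).1 hg
  refine (FV.mem_U g).2 fun i v hv => ?_
  by_cases a : i + 1 ≤ j
  · rw [h1 v (wmono hv a), v_add_self]; exact fun _ _ => rfl
  by_cases b : i + 1 ≤ n + 1 - j
  · exact wmono (h2 v (wmono hv b)) (by omega)
  · exact wmono (top (by omega) h1 v) (by omega)

theorem q_comm (hj : 2 * j ≤ n + 1) : ⁅Qk n F j, Qk n F j⁆ ≤ Mk n F j :=
  commutator_le.2 fun a ha b hb => (FV.mem_M j _).2 fun v => by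
    obtain ⟨a1, a2⟩ := (FV.mem_Qk j hj a).1 ha
    obtain ⟨b1, b2⟩ := (FV.mem_Qk j hj b).1 hb
    obtain ⟨w, rfl⟩ : ∃ w, v = ac b (ac a w) := ⟨ac a⁻¹ (ac b⁻¹ v), by simp⟩
    have h := wadd (a2 _ (top (by omega) b1 w)) (b2 _ (top (by omega) a1 w))
    rw [commutatorElement_def, ac_mul, ac_mul, ac_mul, ac_inv_ac, ac_inv_ac]
    convert h using 1
    rw [ac_add, ac_add]
    ext i
    simp only [Pi.add_apply]
    linear_combination -(ac a w i + ac b w i + w i) * two0 F

theorem m_cen (hj : 2 * j ≤ n + 1) : Mk n F j ≤ Cs (Qk n F j) := fun m hm a ha => ac_ext fun v => by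
  obtain ⟨a1, -⟩ := (FV.mem_Qk j hj a).1 ha
  have m1 := (FV.mem_M j m).1 hm
  have m2 : ∀ x, Wk (n + 1 - j) x → ac m x = x := fun x hx => eq_of_hf fun z => by
    have := (FV.wk_perp j (by omega) x).1 hx _ ((FV.mem_M j _).1 (inv_mem hm) z)
    rw [hf_add_right, ← hf_ac_left] at this
    linear_combination this - hf x z * two0 F
  have h1 := a1 _ (m1 v)
  have h2 := m2 _ (top (by omega) a1 v)
  rw [ac_add] at h1 h2
  rw [ac_mul, ac_mul, eq_add h1, eq_add h2]
  abel

theorem q_cls (hj : 2 * j ≤ n + 1) : ⁅⁅Qk n F j, Qk n F j⁆, Qk n F j⁆ = ⊥ :=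
  commutator_eq_bot_iff_le_centralizer.2 ((q_comm hj).trans (m_cen hj))

/-- `N(U)` keeps the flag. -/
theorem flag (h : ∀ u ∈ UU n F, g⁻¹ * u * g ∈ UU n F) (k : ℕ) : ∀ v, Wk k v → Wk k (ac g v) := by
  induction k with
  | zero => intro v hv; rw [show v = 0 from funext fun i => hv i (Nat.zero_le _), ac_zero]
            exact fun _ _ => rfl
  | succ k ih =>
    intro v hv i hi
    obtain ⟨u, hu, e⟩ := H54.SPF.root (F := F) (i := i) (j := ⟨k, by omega⟩) hi
    have := ih _ ((FV.mem_U _).1 (h u hu) k v hv) ⟨k, by omega⟩ le_rfl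
    rwa [ac_add, ac_mul, ac_mul, ac_ac_inv, e] at this

theorem q_st (hj : 2 * j ≤ n + 1) : St (UU n F) ≤ St (Qk n F j) := fun β hβ => by
  obtain ⟨g, σ, rfl⟩ := FA.semi β
  have h1 : fs n F σ ∈ St (UU n F) := mem_St_of_finite fun u hu => (FV.mem_U _).2 fun i v hv => by
    obtain ⟨w, rfl⟩ := H54.SPF.map_surj σ v
    rw [fs_add, wmap]; exact (FV.mem_U _).1 hu i w ((wmap σ).1 hv)
  have h2 : fs n F σ ∈ St (Qk n F j) := mem_St_of_finite fun u hu => by
    obtain ⟨a1, a2⟩ := (FV.mem_Qk j hj u).1 hu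
    refine (FV.mem_Qk j hj _).2 ⟨fun v hv => ?_, fun v hv => ?_⟩ <;>
      obtain ⟨w, rfl⟩ := H54.SPF.map_surj σ v
    · rw [H54.SPF.fs_ac, a1 w ((wmap σ).1 hv)]
    · rw [fs_add, wmap]; exact a2 w ((wmap σ).1 hv)
  have h3 : MulAut.conj g ∈ St (UU n F) := (mul_mem_cancel_right h1).1 hβ
  have f1 := flag (g := g) fun u hu => (h3 _).2 (by simpa [mul_assoc] using hu)
  have f2 := flag (g := g⁻¹) fun u hu => by simpa using (h3 u).1 hu
  refine mul_mem (mem_St_of_finite fun u hu => ?_) h2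
  obtain ⟨a1, a2⟩ := (FV.mem_Qk j hj u).1 hu
  refine (FV.mem_Qk j hj _).2 ⟨fun v hv => ?_, fun v hv => ?_⟩ <;>
    rw [MulAut.conj_apply, ac_mul, ac_mul]
  · rw [a1 _ (f2 _ v hv), ac_ac_inv]
  · have := f1 _ _ (a2 _ (f2 _ v hv))
    rwa [ac_add, ac_ac_inv] at this

theorem gen {K : Subgroup (XU n F)} (hK : ∀ (i : Fin (n + 1)) y c, i.val < kk n →
    Wk (n - i.val) y → EE (ev i) y c ∈ K) : UU n F ≤ K := by
  have h2 := H54.SPF.two_kk (n := n) (F := F)
  suffices key : ∀ d j, j + d = kk n → ∀ g ∈ UU n F, (∀ i : Fin (n + 1), i.val < j →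
      ac g (ev i) = ev i ∧ ac g (ev i.rev) = ev i.rev) → g ∈ K from
    fun g hg => key _ 0 (zero_add _) g hg fun _ h => absurd h (Nat.not_lt_zero _)
  intro d
  induction d with
  | zero =>
    intro j hj g _ h
    have : g = 1 := X_ext (Matrix.ext fun a b => by
      rw [← ac_ev, ← ac_ev, ac_one]
      by_cases c : b.val < j
      · rw [(h b c).1]
      · have := (h b.rev (by rw [Fin.val_rev]; omega)).2
        rw [Fin.rev_rev] at this
        rw [this])
    rw [this]; exact one_mem _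
  | succ d ih =>
    intro j hj g hg h
    let a : Fin (n + 1) := ⟨j, by omega⟩
    have av : a.val = j := rfl
    have rv : a.rev.val = n - j := by rw [Fin.val_rev]; omega
    have hU := (FV.mem_U g).1 hg
    have mvv : ∀ v z : Vn n F, ac g z = z → hf (ac g v + v) z = 0 := fun v z e => by
      rw [hf_add_left]
      conv_lhs => rw [← e]
      rw [hf_ac, e, CharTwo.add_self_eq_zero]
    have e0 : ac g (ev a) + ev a = 0 := funext fun i => by
      by_cases c : i.val < j
      · have := mvv (ev a) _ (h i c).2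
        rwa [hf_ev_right, Fin.rev_rev] at this
      · exact hU j _ (wev (by omega)) i (by omega)
    have e1 : ac g (ev a) = ev a := by simpa using eq_add e0
    set y := ac g (ev a.rev) + ev a.rev with hy
    have wy : Wk (n - j) y := hU _ _ (wev (by omega))
    have ya : hf y (ev a) = 0 := mvv _ _ e1
    have ok := FV.ok (ev a) y (hf (ev a.rev) y) ya
    have hE := hK a y (hf (ev a.rev) y) (by omega) wy
    have hEU : EE (ev a) y (hf (ev a.rev) y) ∈ UU n F :=
      q_le (j := j + 1) (by omega) (FV.EE_Q _ (by omega) _ _ _ (wev (by omega))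
        (by rwa [Nat.add_sub_add_right]))
    rw [← mul_mem_cancel_left (inv_mem hE)]
    refine ih (j + 1) (by omega) _ (mul_mem (inv_mem hEU) hg) fun i hi => ?_
    have fx : ∀ z : Vn n F, ac (EE (ev a) y (hf (ev a.rev) y)) z = ac g z →
        ac ((EE (ev a) y (hf (ev a.rev) y))⁻¹ * g) z = z := fun z e => by
      rw [ac_mul, ← e, ac_inv_ac]
    by_cases c : i.val < j
    · refine ⟨fx _ ?_, fx _ ?_⟩
      · rw [(h i c).1, ac_EE_fix ok (by rw [H72.SPF.hfe, if_neg (by omega)])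
          (hf_symm (mvv _ _ (h i c).1))]
      · rw [(h i c).2, ac_EE_fix ok (by rw [H72.SPF.hfe, if_neg (by rw [Fin.val_rev]; omega)])
          (hf_symm (mvv _ _ (h i c).2))]
    · obtain rfl : i = a := Fin.ext (by omega)
      refine ⟨fx _ (by rw [e1, ac_EE_self ok]), fx _ ?_⟩
      rw [ac_EE ok, H72.SPF.hfe a.rev a, if_pos (by omega), one_smul, mul_one, add_right_comm,
        add_assoc (ev a.rev), add_right_comm, add_assoc, v_add_self, add_zero]
      exact (eq_add hy.symm).symm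

theorem jobCL : JobCL := by
  intro n F _ _ _ _ _ p _ _ _
  have h2 := H54.SPF.two_kk (n := n) (F := F)
  refine gen fun i y c hi hy => subset_closure ⟨H86.SPI.EE_sq ?_ c, Qk n F (i.val + 1),
    q_le (by omega), FV.EE_Q _ (by omega) _ _ _ (wev (by omega)) (by rwa [Nat.add_sub_add_right]),
    q_st (by omega), q_cls (by omega)⟩
  rw [hf_ev_right]
  exact hy _ (by rw [Fin.val_rev]; omega)

end H94.SW
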