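import Cfsg.Agent.H64.YEKit2
import Cfsg.Agent.H94.YELB0

/-! STD-SP endgame, slot `LB`. -/

set_option autoImplicit false
set_option linter.unusedSectionVars false

namespace H94.YE

open H64.SG (O2 Syl Cz Cs Ns cjs Is2 Inv2 UF IsO2 fx isPGroup_iff_is2 syl_iff)
open Subgroup H67.UA H67.SP H64.YE
open H59.SO (Ind)

universe u

variable {n : ℕ} {F : Type} [Field F] [StarRing F] [TrivialStar F] [CharP F 2] [Finite F]
  {Y : Type} [Group Y] [Finite Y] [QS Y] {G : Type u} [Group G] [Finite G] {ι : XU n F →* Y}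
  {τ : MulAut Y} {Gd Go : XU n F → Prop} {U : Subgroup Y} {e : XU n F →* G} {t : G} {Φ : Y →* G}
  {K₀ : Subgroup G} {r : Y} {Z Q A A' : Subgroup Y}

theorem lb (h : E1 ι τ Gd Go U e t Φ K₀) (rd : RD ι τ Go U r Z Q) (ld : LD τ r Z Q A A')
    (sA : SC U Φ K₀ Z A) (sB : SC U Φ K₀ Z A') : CN Φ K₀ Z A ∧ CN Φ K₀ Z A' := by
  have hk := h.ker
  have tt : ∀ y, τ (τ y) = y := fun y => congrArg (fun f : MulAut Y => f y) h.t2
  have sw' : ∀ y, y ∈ A' ↔ τ y ∈ A := fun y => by rw [ld.sw, tt]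
  have hAQ : A ≤ Q := ld.sup ▸ le_sup_left
  have hBQ : A' ≤ Q := ld.sup ▸ le_sup_right
  have hZA : Z ≤ A := ld.inf ▸ inf_le_left
  have hZB : Z ≤ A' := ld.inf ▸ inf_le_right
  have tz : ∀ z ∈ Z, τ z = z := fun z hz => by
    rcases ld.z z hz with rfl | rfl
    exacts [map_one τ, rd.tr]
  have el' : ∀ a ∈ A', a * a = 1 := fun a ha =>
    τ.injective (by rw [map_mul, ld.el _ ((sw' a).1 ha), map_one])
  have ce' : A' ⊓ Cs A ≤ Z := fun a ha => by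
    have h1 : τ a ∈ Z := ld.ce ⟨(sw' a).1 ha.1, fun b hb => τ.injective (by
      rw [map_mul, map_mul, tt]; exact ha.2 _ ((sw' b).1 hb))⟩
    rw [← tt a, tz _ h1]; exact h1
  have pU : IsPGroup 2 U := h.syl.2.1
  have pA : IsPGroup 2 A := pU.to_le (hAQ.trans rd.qu)
  have pB : IsPGroup 2 A' := pU.to_le (hBQ.trans rd.qu)
  have cs : (Cs Z).map Φ ≤ K₀ ⊓ Cs (Z.map Φ) := by
    rintro _ ⟨p, hp, rfl⟩
    refine ⟨h.le ⟨p, rfl⟩, ?_⟩
    rintro _ ⟨z, hz, rfl⟩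
    rw [← map_mul, hp z hz, map_mul]
  have hT : H98.IsSyl 2 (U.map Φ) (K₀ ⊓ Cs (Z.map Φ)) :=
    (syl_iff.1 h.sylK).of_le ((map_mono rd.uz).trans cs) inf_le_left
  have el2 : ∀ {X : Subgroup Y}, (∀ a ∈ X, a * a = 1) → ∀ a ∈ X.map Φ, a * a = 1 := by
    rintro X hX _ ⟨a, ha, rfl⟩
    rw [← map_mul, hX a ha, map_one]
  have sc2 : ∀ {X : Subgroup Y}, SC U Φ K₀ Z X → ∀ a ∈ X.map Φ, ∀ g ∈ K₀ ⊓ Cs (Z.map Φ),
      g * a * g⁻¹ ∈ U.map Φ → g * a * g⁻¹ ∈ X.map Φ := by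
    rintro X hX _ ⟨a, ha, rfl⟩ g hg
    exact hX a ha g hg.1 hg.2
  have ce2 : ∀ {X X' : Subgroup Y}, IsPGroup 2 X' → X ⊓ Cs X' ≤ X' →
      X.map Φ ⊓ Cs (X'.map Φ) ≤ X'.map Φ := by
    rintro X X' p' hX _ ⟨⟨a, ha, rfl⟩, hc⟩
    exact mem_map_of_mem Φ (hX ⟨ha, fun b hb =>
      ((e_comm_iff hk (isPGroup_iff_is2.1 p' b hb)).1 (hc _ ⟨b, hb, rfl⟩).symm).symm⟩)
  obtain ⟨n1, n2⟩ := two_sc hT (map_mono (hAQ.trans rd.qu)) (map_mono (hBQ.trans rd.qu))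
    (el2 ld.el) (el2 el') (sc2 sA) (sc2 sB) (ce2 pB (ld.ce.trans hZB)) (ce2 pA (ce'.trans hZA)) (by
      rw [← map_inf2 hk pA pB, ← map_commutator, ld.inf]; exact map_mono ld.zc)
  have ht : t ∈ Ns (K₀ ⊓ Cs (Z.map Φ)) := by
    have h1 : t ∈ Cs (Z.map Φ) := by
      rintro _ ⟨z, hz, rfl⟩
      have := h.act z
      rw [tz z hz, mul_inv_eq_iff_eq_mul] at this
      exact this.symm
    have := h.nor
    exact H98.le_normalizer_inf (H := zpowers t) (A := K₀) (B := Cs (Z.map Φ))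
      (by rw [normalizer_eq_top]; exact le_top)
      ((zpowers_le.2 h1).trans le_normalizer) (mem_zpowers t)
  have hO := h.case1 rd (Nat.coprime_two_right.1 (H14.coprime_card_opp (K₀ ⊓ Cs (Z.map Φ))))
    (H14.normalizer_le_normalizer_opp _ ht) (cs.trans (H14.self_le_normalizer_opp _))
    fun m hm => h.mz rd hm.2 (centralizer_le_normalizer _ (H14.opp_le _ hm.1).2)
  have key : ∀ {X : Subgroup Y}, X ≤ Q → Cs (Q.map Φ) ≤ Ns (X.map Φ) := fun hX =>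
    (centralizer_le (map_mono hX)).trans (centralizer_le_normalizer _)
  exact ⟨n1.trans (sup_le (hO.trans (key hAQ)) inf_le_right),
    n2.trans (sup_le (hO.trans (key hBQ)) inf_le_right)⟩

theorem jobLB : JobLB.{u} := by
  intro n F _ _ _ _ _ _ G _ _ e t Y _ _ _ ι τ Gd Go U Φ K₀ h r Z Q A A' rd ld sA sB
  exact lb h rd ld sA sB

end H94.YE
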