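import Cfsg.Agent.H94.Center
import Cfsg.Agent.H13.ZJD
import Cfsg.Agent.H10.ActionStable
import Cfsg.Agent.S0659

/-! The axiomatic version of the ZJ-theorem and of the Glauberman–Thompson theorem. -/

set_option autoImplicit false

namespace H94

open Cfsg Cfsg.FusionSystem H92

universe u

/-- The intersection of the members of `𝒜` inside `Q`. -/
abbrev iOf {G : Type*} [Group G] (𝒜 : Set (Subgroup G)) (Q : Subgroup G) : Subgroup G :=
  ⨅ A ∈ {A : Subgroup G | A ∈ 𝒜 ∧ A ≤ Q}, A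

section group
open Subgroup
open scoped commutatorElement
variable {G : Type*} [Group G] {𝒜 : Set (Subgroup G)} {Q R : Subgroup G}

theorem mem_iOf {x : G} : x ∈ iOf 𝒜 Q ↔ ∀ A ∈ 𝒜, A ≤ Q → x ∈ A := by
  simp only [iOf, Subgroup.mem_iInf, Set.mem_setOf_eq, and_imp]

theorem iOf_le {A : Subgroup G} (hA : A ∈ 𝒜) (h : A ≤ Q) : iOf 𝒜 Q ≤ A :=
  fun _ hx => mem_iOf.1 hx A hA h

theorem commutator_self_le' (Q : Subgroup G) : ⁅Q, Q⁆ ≤ Q := commutator_le.2 fun _ hx _ hy =>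
  Q.mul_mem (Q.mul_mem (Q.mul_mem hx hy) (Q.inv_mem hx)) (Q.inv_mem hy)

theorem iOf_anti (h : Q ≤ R) : iOf 𝒜 R ≤ iOf 𝒜 Q :=
  fun _ hx => mem_iOf.2 fun A hA k => mem_iOf.1 hx A hA (k.trans h)

variable [Finite G] {p : ℕ} [Fact p.Prime] (P : Sylow p G)
  (hst : H13.WeakStable p (P : Subgroup G)) (h𝒜 : ∀ A ∈ 𝒜, A ≤ P ∧ IsMulCommutative A)
  (hne : 𝒜.Nonempty)
  (hinv : ∀ Q : Subgroup G, Q ≤ P → (∃ A ∈ 𝒜, A ≤ Q) →
    normalizer (Q : Set G) ≤ normalizer (iOf 𝒜 Q : Set G))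
  (hrep : ∀ B : Subgroup G, B ≤ P → ⁅⁅B, B⁆, B⁆ = ⊥ → (∃ A ∈ 𝒜, ⁅B, B⁆ ≤ A ∧ ¬ B ≤ A) →
    ∃ A ∈ 𝒜, ⁅B, B⁆ ≤ A ∧ ¬ B ≤ A ∧ B ≤ normalizer (A : Set G))
include hst h𝒜 hne hinv hrep

theorem inf_iOf_normal (B : Subgroup G) (hBn : B.Normal) (hB : IsPGroup p B) :
    (B ⊓ iOf 𝒜 P).Normal := by
  induction B using WellFoundedLT.induction with
  | ind B ih =>
  set Z := iOf 𝒜 (P : Subgroup G) with hZ
  obtain ⟨A₀, hA₀⟩ := hne
  have hBP : B ≤ P := hB.le_sylow_of_normal P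
  have hPZ : (P : Subgroup G) ≤ normalizer (Z : Set G) :=
    le_normalizer.trans (hinv P le_rfl ⟨A₀, hA₀, (h𝒜 _ hA₀).1⟩)
  have hZA : ∀ A ∈ 𝒜, Z ≤ A := fun A hA => iOf_le hA (h𝒜 A hA).1
  have ih' : ∀ B' : Subgroup G, B'.Normal → B' < B → (B' ⊓ Z).Normal := fun B' h1 h2 =>
    ih B' h2 h1 (hB.to_le h2.le)
  have hncl : normalClosure ((B ⊓ Z : Subgroup G) : Set G) ≤ B :=
    normalClosure_le_normal (inf_le_left : B ⊓ Z ≤ B)
  rcases hncl.lt_or_eq with hlt | heq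
  · have := ih' _ normalClosure_normal hlt
    have h2 : normalClosure ((B ⊓ Z : Subgroup G) : Set G) ⊓ Z = B ⊓ Z :=
      le_antisymm (inf_le_inf_right _ hncl) (le_inf le_normalClosure inf_le_right)
    rwa [h2] at this
  by_cases hbot : B = ⊥
  · rw [hbot, bot_inf_eq]; infer_instance
  have hW := ih' _ inferInstance (H13.commutator_lt_of_isPGroup hB hbot)
  have hB'Z : ⁅B, B⁆ ≤ Z := by
    refine le_trans ?_ (inf_le_right : ⁅B, B⁆ ⊓ Z ≤ Z)
    nth_rewrite 1 [← heq]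
    refine H13.commutator_closure_left_le le_normalizer_of_normal ?_
    intro y hy b hb
    obtain ⟨x, hx, hc⟩ := Group.mem_conjugatesOfSet_iff.mp hy
    obtain ⟨g, rfl⟩ := isConj_iff.mp hc
    have hb' : g⁻¹ * b * g ∈ B := by simpa using hBn.conj_mem b hb g⁻¹
    have : ⁅g * x * g⁻¹, b⁆ = g * ⁅x, g⁻¹ * b * g⁆ * g⁻¹ := by
      rw [conjugate_commutatorElement]; congr 1; group
    rw [this]
    refine hW.conj_mem _ ⟨commutator_mem_commutator hx.1 hb', ?_⟩ g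
    exact le_normalizer_iff_commutator_le_left.mp hPZ (commutator_mem_commutator hx.2 (hBP hb'))
  have hcl : ⁅⁅B, B⁆, B⁆ = ⊥ := by
    rw [commutator_comm, commutator_eq_bot_iff_le_centralizer]
    nth_rewrite 1 [← heq]
    refine normalClosure_le_normal fun x hx => ?_
    haveI := (h𝒜 _ hA₀).2
    exact centralizer_le (hB'Z.trans (hZA _ hA₀)) (le_centralizer A₀ (hZA _ hA₀ hx.2))
  by_contra hcon
  obtain ⟨A, hA, -, hBA, hn⟩ := hrep B hBP hcl (by
    by_contra h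
    push Not at h
    refine hcon ?_
    rwa [inf_eq_left.2 fun x hx => mem_iOf.2 fun A hA _ => h A hA (hB'Z.trans (hZA A hA)) hx])
  set L := (normalizer ((B ⊓ Z : Subgroup G) : Set G)).normalCore with hL
  have hLN : L ≤ normalizer ((B ⊓ Z : Subgroup G) : Set G) := normalCore_le _
  have hAL : A ≤ L := by
    refine (hst B hBn hB A (h𝒜 A hA).1 (h𝒜 A hA).2 ?_).trans (normalCore_mono (sup_le ?_ ?_))
    · rw [eq_bot_iff, ← commutator_self_eq_bot_iff.mpr (h𝒜 A hA).2]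
      exact commutator_mono (le_normalizer_iff_commutator_le_right.mp hn) le_rfl
    · exact (centralizer_le (inf_le_left : B ⊓ Z ≤ B)).trans (centralizer_le_normalizer _)
    · exact (le_inf le_normalizer_of_normal hPZ).trans inf_normalizer_le_normalizer_inf
  have hAQ : A ≤ (P : Subgroup G) ⊓ L := le_inf (h𝒜 A hA).1 hAL
  apply hBA
  rw [← heq]
  exact (H13.normalClosure_le_of_sup_eq_top (H13.frattini_inf P L) hLN
    (hinv _ inf_le_left ⟨A, hA, hAQ⟩) (inf_le_right.trans (iOf_anti inf_le_left))).trans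
      (iOf_le hA hAQ)

theorem iOf_normal (hc : centralizer (pCore p G : Set G) ≤ pCore p G) : (iOf 𝒜 P).Normal := by
  have hO := H13.isPGroup_pCore (G := G) p
  have h1 := inf_iOf_normal P hst h𝒜 hne hinv hrep (pCore p G) inferInstance hO
  have hOP : pCore p G ≤ P := hO.le_sylow_of_normal P
  obtain ⟨A₀, hA₀⟩ := hne
  have h0 : iOf 𝒜 P ≤ A₀ := iOf_le hA₀ (h𝒜 _ hA₀).1
  have hZ : IsMulCommutative (iOf 𝒜 (P : Subgroup G)) := by
    rw [← commutator_self_eq_bot_iff, eq_bot_iff, ← commutator_self_eq_bot_iff.mpr (h𝒜 _ hA₀).2]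
    exact commutator_mono h0 h0
  have h3 := hst (pCore p G) inferInstance hO _ (h0.trans (h𝒜 _ hA₀).1) hZ (by
    rw [eq_bot_iff, ← commutator_self_eq_bot_iff.mpr hZ]
    exact commutator_mono (le_normalizer_iff_commutator_le_right.mp
      (hOP.trans (le_normalizer.trans (hinv P le_rfl ⟨A₀, hA₀, (h𝒜 _ hA₀).1⟩)))) le_rfl)
  rw [sup_of_le_right (hc.trans hOP)] at h3
  rwa [inf_of_le_right (h3.trans (H13.le_pCore (P.2.to_le (normalCore_le _))))] at h1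

end group

section
variable {G : Type u} [Group G] [Finite G] {p : ℕ} [Fact p.Prime]

theorem eq_top_of_sub_fos (T : Sylow p G)
    (hc : Subgroup.centralizer (pCore p G : Set G) ≤ pCore p G) {H : Subgroup G}
    (hT : (T : Subgroup G) ≤ H) (h : (groupFusionSystem (T : Subgroup G)).IsSubsystemOf
      (fusionSystemOfSubgroup H T hT)) : H = ⊤ := by
  refine eq_top_iff.2 fun g _ => ?_
  have hO := pCore_le_sylow T
  obtain ⟨-, -, k, hk, e⟩ := (mor_ofSubgroup_iff hT).1 (isSubsystemOf_iff.1 h (pCore p G) _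
    (mor_group_iff.2 ⟨hO, fun x hx => hO (Subgroup.Normal.conj_mem inferInstance x hx g), g,
      fun _ _ => rfl⟩))
  have h1 : k⁻¹ * g ∈ Subgroup.centralizer (pCore p G : Set G) := mem_centralizer_sub.2 fun x hx => by
    have := e x hx
    calc k⁻¹ * g * x * (k⁻¹ * g)⁻¹ = k⁻¹ * (g * x * g⁻¹) * k := by group
      _ = x := by rw [this]; group
  have := H.mul_mem hk (hT (hO (hc h1)))
  rwa [mul_inv_cancel_left] at this

theorem sectionsStable_of_overgroups (hp : p ≠ 2) (T : Sylow p G)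
    (hc : Subgroup.centralizer (pCore p G : Set G) ≤ pCore p G)
    (hG : ¬ HasNormalPComplement p G)
    (hover : ∀ H : Subgroup G, (T : Subgroup G) ≤ H → H ≠ ⊤ → HasNormalPComplement p H) :
    H10.SectionsStable p G := by
  refine (H10.thompsonMinimal_of_coatom T hc (H10.isCoatom_of_overgroups T hc hG hover)
    ?_).sectionsStable hp T.isPGroup'
  have hs := QuotientGroup.mk'_surjective (pCore p G)
  by_cases hb : ((T.mapSurjective hs : Sylow p (G ⧸ pCore p G)) : Subgroup (G ⧸ pCore p G)) = ⊥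
  · exact H7.hasNPC_of_not_dvd fun hd => (T.mapSurjective hs).ne_bot_of_dvd_card hd hb
  refine Cfsg.Agent.S0659.result hp (T.mapSurjective hs) ?_
  have hp' := (T.mapSurjective hs).isPGroup'
  have h1 := ((isFun_ZJ p).le_normalizerIn hp').trans inf_le_right
  have h4 := H7.hasNPC_map (hover _ (Subgroup.map_le_iff_le_comap.1 h1) fun ht => by
    rw [← Subgroup.comap_top (QuotientGroup.mk' (pCore p G)), (Subgroup.comap_injective hs).eq_iff,
      Subgroup.normalizer_eq_top_iff] at ht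
    have h3 := H2.le_pCore (hp'.to_le ((isFun_ZJ p).le _ _))
    rw [H2.pCore_quotient_pCore] at h3
    exact (isFun_ZJ p).ne _ _ hp' hb (eq_bot_iff.mpr h3)) (QuotientGroup.mk' (pCore p G))
  rwa [Subgroup.map_comap_eq_self_of_surjective hs] at h4

end

/-- A non-inner system for an odd prime contains a non-inner subsystem with a `p`-stable model. -/
theorem exists_stable_model {Ω : Type u} [Group Ω] {S : Subgroup Ω} [Finite S]
    {F : FusionSystem S} {p : ℕ} [Fact p.Prime] (hS : IsPGroup p S) (hF : F.IsSaturated p)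
    (hp : p ≠ 2) (hne : ¬ Inner F) : ∃ E : FusionSystem S, E.IsSubsystemOf F ∧ ¬ Inner E ∧
      ∃ (G : Type u) (_ : Group G) (_ : Finite G) (T : Sylow p G) (a : Ω → G) (b : G → Ω),
        Tr a b E (groupFusionSystem (T : Subgroup G)) ∧
        Subgroup.centralizer (pCore p G : Set G) ≤ pCore p G ∧ H10.SectionsStable p G := by
  obtain ⟨E, h1, h2, -, h3, h4⟩ := exists_sparse hS hF (Or.inl hp) hne
  obtain ⟨G, _, _, T, a, b, k, hc⟩ := exists_tr_model hS h2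
  refine ⟨E, h1, h3, G, _, inferInstance, T, a, b, k, hc, sectionsStable_of_overgroups hp T hc
    (fun h => h3 (k.symm.inner (inner_of_hasNPC T h))) fun H hT hH => ?_⟩
  obtain ⟨D, hD⟩ := k.iso.exists_tr_sub' le_rfl k.iso.symm.img_top (fusionSystemOfSubgroup H T hT)
  rcases h4 D (hD.symm.isSaturated (isSaturated_fos ((sylIn_top T).mono hT le_top))) (Or.inl hp)
    (k.symm.isSubsystemOf hD.symm (isSubsystemOf_iff.2 fun P f hf => by
      obtain ⟨l1, l2, g, -, e⟩ := (mor_ofSubgroup_iff hT).1 hf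
      exact mor_group_iff.2 ⟨l1, l2, g, e⟩)) with h | h
  · exact (hH (eq_top_of_sub_fos T hc hT (hD.isSubsystemOf k h))).elim
  · exact hasNPC_of_sub T hT (hD.inner h)

theorem inner_of_iOf {Ω : Type u} [Group Ω] {S : Subgroup Ω} [Finite S]
    {F : FusionSystem S} {p : ℕ} [Fact p.Prime] (hS : IsPGroup p S) (hF : F.IsSaturated p)
    (hp : p ≠ 2) {𝒜 : Set (Subgroup Ω)} (h𝒜 : ∀ A ∈ 𝒜, A ≤ S ∧ IsMulCommutative A)
    (hne : 𝒜.Nonempty)
    (hinv : ∀ Q : Subgroup Ω, Q ≤ S → (∃ A ∈ 𝒜, A ≤ Q) → ∀ α ∈ F.autGroup Q, ∀ x : Q,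
      (x : Ω) ∈ iOf 𝒜 Q → ((α x : Q) : Ω) ∈ iOf 𝒜 Q)
    (hrep : ∀ B : Subgroup Ω, B ≤ S → ⁅⁅B, B⁆, B⁆ = ⊥ → (∃ A ∈ 𝒜, ⁅B, B⁆ ≤ A ∧ ¬ B ≤ A) →
      ∃ A ∈ 𝒜, ⁅B, B⁆ ≤ A ∧ ¬ B ≤ A ∧ B ≤ Subgroup.normalizer (A : Set Ω))
    (h : NSub F (iOf 𝒜 S) (innerFusionSystem S)) : Inner F := by
  by_contra hcon
  obtain ⟨E, h1, h2, G, _, _, T, a, b, k, hc, hst⟩ := exists_stable_model hS hF hp hcon
  have hi := k.iso
  have key : ∀ Q : Subgroup G, Q ≤ T → (∃ A ∈ 𝒜, img A a ≤ Q) → ∀ y,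
      y ∈ iOf ((fun A => img A a) '' 𝒜) Q ↔ y ∈ (T : Subgroup G) ∧ b y ∈ iOf 𝒜 (img Q b) := by
    intro Q hQ ⟨A₀, hA₀, l⟩ y
    have e : ∀ A ∈ 𝒜, img A a ≤ Q ↔ A ≤ img Q b := fun A hA => by
      rw [← hi.symm.img_le_img_iff (hi.img_le (h𝒜 A hA).1) hQ, hi.img_img (h𝒜 A hA).1]
    rw [mem_iOf, mem_iOf]
    constructor
    · intro hy
      exact ⟨hQ (l (hy _ ⟨A₀, hA₀, rfl⟩ l)), fun A hA hAQ =>
        ((hi.mem_img' (h𝒜 A hA).1).1 (hy _ ⟨A, hA, rfl⟩ ((e A hA).2 hAQ))).2⟩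
    · rintro ⟨hy1, hy2⟩ _ ⟨A, hA, rfl⟩ hAQ
      exact (hi.mem_img' (h𝒜 A hA).1).2 ⟨hy1, hy2 A hA ((e A hA).1 hAQ)⟩
  have hN := iOf_normal (𝒜 := (fun A => img A a) '' 𝒜) T
    (H13.weakStable_of_isPStableOn T fun V _ hV => hst.isPStableOn V hV)
    (by
      rintro _ ⟨A, hA, rfl⟩
      refine ⟨hi.img_le (h𝒜 A hA).1, ?_⟩
      rw [← Subgroup.commutator_self_eq_bot_iff, ← hi.img_commutator (h𝒜 A hA).1 (h𝒜 A hA).1,
        Subgroup.commutator_self_eq_bot_iff.2 (h𝒜 A hA).2, hi.img_bot])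
    (hne.image _)
    (by
      rintro Q hQ ⟨_, ⟨A, hA, rfl⟩, l⟩ g hg
      refine Subgroup.mem_normalizer_fintype fun y hy => ?_
      have hyQ : y ∈ Q := l (iOf_le (Set.mem_image_of_mem _ hA) l hy)
      obtain ⟨l1, l2⟩ := (key Q hQ ⟨A, hA, l⟩ y).1 hy
      have l3 : Mor (groupFusionSystem (T : Subgroup G)) Q fun x => g * x * g⁻¹ :=
        mor_group_iff.2 ⟨hQ, fun x hx => hQ (conj_mem_of_mem_normalizer hg hx), g, fun _ _ => rfl⟩
      obtain ⟨α, hα, e⟩ := (isSubsystemOf_iff.1 h1 _ _ (k.bwd _ _ l3)).exists_aut' fun x hx =>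
        mem_img_of_mem b (conj_mem_of_mem_normalizer hg
          ((hi.symm.mem_img' hQ).1 hx).2)
      have l4 := mem_img_of_mem b hyQ
      have l5 := hinv _ (hi.symm.img_le hQ) ⟨A, hA, by
        rw [← hi.img_img (h𝒜 A hA).1]; exact img_mono _ l⟩ α hα ⟨_, l4⟩ l2
      rw [← af_of_mem α l4, e _ l4, hi.a_b y l1] at l5
      exact (key Q hQ ⟨A, hA, l⟩ _).2 ⟨l3.mem hyQ, l5⟩)
    (by
      rintro B hB hcl ⟨_, ⟨A, hA, rfl⟩, l1, l2⟩
      have hB' := hi.symm.img_le hB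
      have hBB : ⁅B, B⁆ ≤ T := (commutator_self_le' B).trans hB
      obtain ⟨A', hA', m1, m2, m3⟩ := hrep (img B b) hB' (by
        rw [← hi.symm.img_commutator hB hB, ← hi.symm.img_commutator hBB hB, hcl, hi.symm.img_bot])
        ⟨A, hA, by
          rw [← hi.symm.img_commutator hB hB, ← hi.img_img (h𝒜 A hA).1]; exact img_mono _ l1,
          fun l => l2 (by rw [← hi.symm.img_img hB]; exact img_mono _ l)⟩
      refine ⟨_, ⟨A', hA', rfl⟩, ?_, fun l => m2 ?_, ?_⟩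
      · rw [← hi.symm.img_img hB, ← hi.img_commutator hB' hB']; exact img_mono _ m1
      · rw [← hi.img_img (h𝒜 A' hA').1]; exact img_mono _ l
      · have : img (img B b) a ≤ img (normalizerIn S A') a := img_mono a (le_inf hB' m3)
        rw [hi.symm.img_img hB, hi.img_normalizerIn' (h𝒜 A' hA').1] at this
        exact this.trans inf_le_right) hc
  obtain ⟨A₀, hA₀⟩ := hne
  have hIS : iOf 𝒜 S ≤ S := (iOf_le hA₀ (h𝒜 _ hA₀).1).trans (h𝒜 _ hA₀).1
  have e : iOf ((fun A => img A a) '' 𝒜) T = img (iOf 𝒜 S) a := by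
    ext y
    rw [key _ le_rfl ⟨A₀, hA₀, hi.img_le (h𝒜 _ hA₀).1⟩, hi.symm.img_top, hi.mem_img' hIS]
  rw [e] at hN
  have h3 := k.symm.isNormal (isNormal_group (hi.img_le hIS))
  rw [hi.img_img hIS] at h3
  exact h2 ((h.of_sub h1).sub_of_normal h3)

end H94
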