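import Cfsg.Agent.H14.FEKit

/-! Tower FE: the job `UD2`. -/

set_option autoImplicit false

namespace H94.FE

open Cfsg Subgroup MulAction H14 H98 H1.Gold H31.S2 H14.GC H14.FE
open scoped commutatorElement

universe u

theorem jobUD2 : JobUD2.{u} := by
  intro G _ _ A h hD P hP B B' hB hB' hne d hd e he d2 e2 g hg hc
  have hC := h.clq hP
  have dP : g * d * g⁻¹ ∈ P := mul_mem (mul_mem hg hd.1) (inv_mem hg)
  have eP : g * e * g⁻¹ ∈ P := mul_mem (mul_mem hg he.1) (inv_mem hg)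
  have dB : g * d * g⁻¹ ∈ cj g B := conj_mem_cj hd.2
  have eB : g * e * g⁻¹ ∈ cj g B' := conj_mem_cj he.2
  have m1 : B ∈ H14.FE.CP A P := mem_CP hB hd.1 hd.2 d2.1
  have m2 : B' ∈ H14.FE.CP A P := mem_CP hB' he.1 he.2 e2.1
  have m3 : cj g B ∈ H14.FE.CP A P := mem_CP (vx_cj hB g) dP dB (d2.conj g).1
  have m4 : cj g B' ∈ H14.FE.CP A P := mem_CP (vx_cj hB' g) eP eB (e2.conj g).1
  have hle : ∀ X Y : Subgroup G, X ∈ H14.FE.CP A P → X ≠ Y → X ≤ sSup (H14.FE.CP A P \ {Y}) :=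
    fun X Y hX hXY => le_sSup ⟨hX, hXY⟩
  have hne' : cj g B' ≠ cj g B := fun h0 => hne (cj_inj.1 h0).symm
  have hprod : g * d * g⁻¹ * (g * e * g⁻¹) = d * e := by
    have : g * d * g⁻¹ * (g * e * g⁻¹) = g * (d * e) * g⁻¹ := by group
    rw [this, hc, mul_inv_cancel_right]
  by_cases h1 : cj g B = B'
  · exact Or.inr h1
  by_cases h2 : cj g B = B
  · refine Or.inl ⟨h2, ?_⟩
    have hx : d⁻¹ * (g * d * g⁻¹) = e * (g * e * g⁻¹)⁻¹ := by
      rw [eq_mul_inv_iff_mul_eq, mul_assoc, hprod, inv_mul_cancel_left]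
    have h0 : d⁻¹ * (g * d * g⁻¹) = 1 := by
      refine (hD _ hC B m1).eq_one hP (mul_mem (inv_mem hd.1) dP)
        (mem_inf.2 ⟨B.mul_mem (B.inv_mem hd.2) (h2 ▸ dB), ?_⟩)
      rw [hx]
      exact Subgroup.mul_mem _ (hle B' B m2 hne.symm he.2)
        (Subgroup.inv_mem _ (hle _ B m4 (h2 ▸ hne') eB))
    have h3 : e * (g * e * g⁻¹)⁻¹ = 1 := hx ▸ h0
    refine ⟨?_, ?_⟩
    · have := inv_mul_eq_one.1 h0
      exact (mul_inv_eq_iff_eq_mul.1 this.symm)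
    · have := mul_inv_eq_one.1 h3
      exact (mul_inv_eq_iff_eq_mul.1 this.symm)
  · exfalso
    refine hD _ hC _ m3 (g * d * g⁻¹) (mem_inf.2 ⟨dB, ?_⟩) (d2.conj g)
    have hx : g * d * g⁻¹ = d * e * (g * e * g⁻¹)⁻¹ := by
      rw [eq_mul_inv_iff_mul_eq, hprod]
    rw [hx]
    exact Subgroup.mul_mem _
      (Subgroup.mul_mem _ (hle B _ m1 (Ne.symm h2) hd.2) (hle B' _ m2 (Ne.symm h1) he.2))
      (Subgroup.inv_mem _ (hle _ _ m4 hne' eB))

end H94.FE
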