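import Cfsg.Agent.H63.KgvSpec
import Cfsg.Agent.H28.CharBasic

/-! Tower KGV: tensor induction for `Good` families. -/

set_option autoImplicit false

namespace H94.KgvTI

open Finset Cfsg H63.Kgv

universe u

theorem sum_ee (p : ℕ) [Fact p.Prime] (t : ZMod p) (ht : t ≠ 0) :
    ∑ c : ZMod p, ee p (t * c) = 0 := by
  have h := AddChar.sum_mulShift t (ZMod.isPrimitive_stdAddChar p)
  rw [if_neg ht] at h
  simpa [mul_comm] using h

theorem graded (p : ℕ) [Fact p.Prime] (H : Type u) [Group H] (A : ZMod p → H → ℂ)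
    (hA : Good p H A) :
    ∃ (n : ℕ) (ρ : H →* Matrix (Fin n) (Fin n) ℂ) (dg : Fin n → ZMod p),
      (∀ h a b, dg a ≠ dg b → ρ h a b = 0) ∧
      ∀ t, t ≠ 0 → ∀ h, A t h = ∑ a, ee p (t * dg a) * ρ h a a := by
  classical
  obtain ⟨Θ, hΘ, hA⟩ := hA
  choose al be hal hbe hΘe using hΘ
  have hc : ∀ c, IsCharacter H (al c + ∑ c' ∈ univ.erase c, be c') := fun c =>
    H28.Cfsg.IsCharacter.add (hal c) (H28.isCharacter_sum _ fun c' _ => hbe c')
  choose n σ hσ using hc
  let m : ∀ c, H →* Matrix (Fin (n c)) (Fin (n c)) ℂ := fun c =>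
    { toFun := fun h => LinearMap.toMatrix' (σ c h)
      map_one' := by rw [map_one]; exact LinearMap.toMatrix'_one
      map_mul' := fun a b => by rw [map_mul]; exact LinearMap.toMatrix'_mul _ _ }
  have hm : ∀ c h, ∑ k, m c h k k = Θ c h + ∑ c', be c' h := by
    intro c h
    have h1 : ∑ k, m c h k k = (σ c).character h := by
      rw [Representation.character, LinearMap.trace_eq_matrix_trace ℂ (Pi.basisFun ℂ _),
        LinearMap.toMatrix_eq_toMatrix']
      rfl
    rw [h1, hσ c, hΘe c, ← Finset.add_sum_erase univ (fun c' => be c' h) (mem_univ c)]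
    simp only [Pi.add_apply, Pi.sub_apply, Finset.sum_apply]
    ring
  let e := Fintype.equivFin (Σ c, Fin (n c))
  let ρ : H →* Matrix (Fin (Fintype.card (Σ c, Fin (n c)))) (Fin (Fintype.card (Σ c, Fin (n c)))) ℂ :=
    { toFun := fun h => (Matrix.blockDiagonal' fun c => m c h).submatrix e.symm e.symm
      map_one' := by
        have : (fun c => m c 1) = 1 := funext fun c => map_one (m c)
        rw [this, Matrix.blockDiagonal'_one, Matrix.submatrix_one_equiv]
      map_mul' := fun a b => by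
        have : (fun c => m c (a * b)) = fun c => m c a * m c b := funext fun c => map_mul (m c) a b
        rw [this, Matrix.blockDiagonal'_mul, Matrix.submatrix_mul_equiv] }
  refine ⟨_, ρ, fun a => (e.symm a).1, fun h a b hab => ?_, fun t ht h => ?_⟩
  · exact Matrix.blockDiagonal'_apply_ne (fun c => m c h) (e.symm a).2 (e.symm b).2 hab
  · have h1 : ∑ a, ee p (t * (e.symm a).1) * ρ h a a =
        ∑ i : (Σ c, Fin (n c)), ee p (t * i.1) * Matrix.blockDiagonal' (fun c => m c h) i i :=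
      Equiv.sum_comp e.symm
        (fun i : (Σ c, Fin (n c)) => ee p (t * i.1) * Matrix.blockDiagonal' (fun c => m c h) i i)
    rw [h1, Fintype.sum_sigma, hA t ht h]
    simp only [Matrix.blockDiagonal'_apply_eq, ← Finset.mul_sum, hm, mul_add, Finset.sum_add_distrib,
      ← Finset.sum_mul]
    rw [sum_ee p t ht, zero_mul, add_zero]

theorem job : H63.Kgv.JTI.{u} := by
  classical
  intro tm p _ E _ _ H _ r x A Γ hr hrp hi hx hA h1 h2
  obtain ⟨n, ρ, dg, hρ, hAt⟩ := graded p H A hA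
  have hpow : ∀ y : E, y ^ r ∈ H := fun y => hi ▸ Subgroup.pow_index_mem H y
  let Γ' : ZMod p → E → ℂ := fun t y =>
    if hy : y ∈ H then
      ∏ j ∈ range r, ∑ a, ee p (t * dg a) * ρ (MulAut.conjNormal (x ^ j) (⟨y, hy⟩ : H)) a a
    else ∑ a, ee p (r * t * dg a) * ρ ⟨y ^ r, hpow y⟩ a a
  have hG : Good p E Γ' := by
    refine tm p E H r n x ρ dg Γ' hr hi hx hρ (fun t h => ?_) (fun t y h hy he => ?_)
    · simp only [Γ', dif_pos h.2]
    · have : h = ⟨y ^ r, hpow y⟩ := Subtype.ext he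
      simp only [Γ', dif_neg hy, this]
  have hr0 : (r : ZMod p) ≠ 0 := by
    intro h
    rw [ZMod.natCast_eq_zero_iff] at h
    exact hrp ((Nat.prime_dvd_prime_iff_eq Fact.out hr).1 h).symm
  obtain ⟨Θ, g1, g2⟩ := hG
  refine ⟨Θ, g1, fun t ht y => ?_⟩
  rw [← g2 t ht y]
  by_cases hy : y ∈ H
  · have := h1 t ⟨y, hy⟩
    simp only [Γ', dif_pos hy]
    rw [this]
    exact Finset.prod_congr rfl fun j _ => hAt t ht _
  · simp only [Γ', dif_neg hy]
    rw [h2 t y ⟨y ^ r, hpow y⟩ hy rfl]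
    exact hAt _ (mul_ne_zero hr0 ht) _

end H94.KgvTI
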