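import Cfsg.Agent.H94.L3Kit
import Cfsg.Agent.H19.A7LI
import Cfsg.Agent.H58.PsuGraph

/-! Chapter LIST of S3140: the classical groups. -/

set_option autoImplicit false

namespace H94.L3

open Subgroup Cfsg Matrix H57 Module H19.A7L
open scoped MatrixGroups commutatorElement

theorem free_lift {S : Type*} [Group S] {A : Subgroup (S ⧸ center S)} (h : Nonempty (A ≃* M)) :
    ∃ ρ : M →* S, Function.Injective ρ ∧ ((QuotientGroup.mk' (center S)).comp ρ).range = A := by
  obtain ⟨η, i, rfl⟩ := hom_of h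
  obtain ⟨ρ, j, e⟩ := exists_lift (QuotientGroup.mk' (center S)) (QuotientGroup.ker_mk' _).le η i
    fun y _ => QuotientGroup.mk'_surjective _ y
  exact ⟨ρ, j, congrArg _ (MonoidHom.ext e)⟩

theorem cover {S : Type*} [Group S] {τ : MulAut S} {A : Subgroup (S ⧸ center S)}
    (h : Cf (quotCenterAut S τ) A) : ∃ ρ : M →* S, Function.Injective ρ ∧
      ((QuotientGroup.mk' (center S)).comp ρ).range = A ∧ ∀ m, τ (ρ m) = ρ m := by
  obtain ⟨ρ, i, e⟩ := free_lift h.ty
  refine ⟨ρ, i, e, fun m => H55.A7R.perf_eq (P := ⊤) perf_M (τ.toMonoidHom.comp ρ) ρ (fun x _ => ?_)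
    m (mem_top m)⟩
  rw [← QuotientGroup.eq_one_iff, QuotientGroup.mk_mul, QuotientGroup.mk_inv, mul_inv_eq_one]
  exact h.fix _ (e.le ⟨x, rfl⟩)

theorem card_of_fix {S : Type*} [Group S] [Finite S] {τ : MulAut S} {A : Subgroup (S ⧸ center S)}
    (h : Cf (quotCenterAut S τ) A) {R : Subgroup S} (hR : ∀ s, s ∈ R ↔ τ s = s) {N : Type*} [Group N]
    (hN : IsQuasisimple N) (e : N ≃* R) : Nat.card (N ⧸ center N) = 5616 := by
  obtain ⟨ρ, i, r, fx⟩ := cover h
  have hq := H14.quasi_of_mulEquiv hN e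
  have t := (MonoidHom.ofInjective i).symm
  have q := qs_of t
  have h1 : ρ.range ≤ R := by rintro _ ⟨m, rfl⟩; exact (hR _).2 (fx m)
  have h2 : R ≤ ρ.range := (H14.quasi_sub_normalized hq fun y hy => mem_normalizer_fintype fun x hx =>
    H55.A7R.le_of_perf (P := ρ.range.map (MulAut.conj y).toMonoidHom) (K := ρ.range)
      (by rw [← map_commutator, H14.quasi_sub_perfect q]) (fun a ha b hb => by
        have k : ∀ a ∈ ρ.range.map (MulAut.conj y).toMonoidHom, ∃ p ∈ ρ.range, ∃ z ∈ center S,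
            a = p * z := by
          rintro _ ⟨_, ⟨m, rfl⟩, rfl⟩
          obtain ⟨m', e⟩ := r.ge ((mem_normalizer_iff.1 (h.nor y (by
            rw [quotCenterAut_mk, (hR y).1 hy])) _).1 (r.le ⟨m, rfl⟩))
          exact ⟨_, ⟨m', rfl⟩, exists_center e⟩
        obtain ⟨p, hp, z, hz, rfl⟩ := k a ha
        obtain ⟨p', hp', z', hz', rfl⟩ := k b hb
        rw [comm_mul_center hz hz', commutatorElement_def]
        exact mul_mem (mul_mem (mul_mem hp hp') (inv_mem hp)) (inv_mem hp'))
      ⟨x, hx, rfl⟩).resolve_right fun k =>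
      H14.quasi_sub_commutator_ne_bot q (H14.commutator_eq_bot_mono k (le_inf le_rfl h1) h1)
  obtain rfl := le_antisymm h1 h2
  rw [Nat.card_congr ((H73.D8W.cq (e.trans t)).trans eM).toEquiv, card_M]

theorem dual_of {K m : Type*} [Field K] [Fintype m] [DecidableEq m] {x : GL m K} {y B B' : Matrix m m K}
    (h : B' * B = 1) (k : yᵀ * B * x.val = B) : (x⁻¹).val.charpoly = y.charpoly := by
  have : (x⁻¹).val = B' * yᵀ * B := by
    rw [← Matrix.mul_one (B' * yᵀ * B), ← x.mul_inv, ← Matrix.mul_assoc, Matrix.mul_assoc B',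
      Matrix.mul_assoc B', k, h, Matrix.one_mul]
  rw [this, charpoly_mul_comm, ← Matrix.mul_assoc, mul_eq_one_comm.1 h, Matrix.one_mul,
    charpoly_transpose]

variable {F : Type} [Field F] [Fintype F] {n : ℕ}

theorem card3 (h3 : (3 : F) = 0) : ∃ f, 1 ≤ f ∧ Fintype.card F = 3 ^ f := by
  haveI : CharP F 3 := (CharP.charP_iff_prime_eq_zero Nat.prime_three).2 (by exact_mod_cast h3)
  obtain ⟨f, -, e⟩ := FiniteField.card F 3
  exact ⟨f, f.pos, e⟩

theorem no_su {q : ℕ} (hF : Fintype.card F = q ^ 2) (hn : n ≤ 5) (ρ : M →* SU n F q)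
    (i : Function.Injective ρ) : False := by
  let τ := SpecialLinearGroup.toGL.comp ((SU n F q).subtype.comp ρ)
  have j : Function.Injective τ :=
    SpecialLinearGroup.toGL_injective.comp ((SU n F q).subtype_injective.comp i)
  obtain ⟨h3, -⟩ := rep3 τ j (by simp; omega)
  obtain ⟨f, -, e⟩ := card3 h3
  obtain ⟨k, -, rfl⟩ := (Nat.dvd_prime_pow Nat.prime_three).1
    (show q ∣ 3 ^ f from e ▸ hF ▸ dvd_pow_self q two_ne_zero)
  have b := congrArg transpose ((H58.mem_GU_iff' hF _).1 (H59.suToGU n F _ (ρ x13)).2)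
  rw [transpose_mul, transpose_transpose, transpose_one] at b
  have := rep6 τ j h3 (H59.frobAut hF : F →+* F) k (fun _ => rfl) ((dual_of (B := 1) (B' := 1)
    (one_mul 1) (by rw [Matrix.mul_one]; exact b)).trans (charpoly_map _ _))
  simp at this
  omega

theorem jobU : JobU := fun _ _ _ _ hF _ hn _ h =>
  let ⟨ρ, i, _⟩ := free_lift h
  no_su hF hn ρ i

theorem jobS : JobS := fun F _ _ _ h => by
  obtain ⟨ρ, i, -⟩ := free_lift h
  let τ := ((symplecticGroup (Fin 2) F).subtype.comp ρ).toHomUnits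
  have j : Function.Injective τ := fun a b e => i (Subtype.ext (congrArg Units.val e))
  obtain ⟨h3, -⟩ := rep3 τ j (by simp)
  have := rep6 τ j h3 (RingHom.id F) 0 (by simp) ((dual_of (B := J (Fin 2) F) (B' := -J (Fin 2) F)
    (by rw [neg_mul, J_squared, neg_neg]) (SymplecticGroup.mem_iff'.1 (ρ x13).2)).trans
      (Polynomial.map_id).symm)
  simp at this

omit [Fintype F] in
theorem sl_rep (hn : n ≤ 7) (ρ : M →* SL(n, F)) (i : Function.Injective ρ) : (3 : F) = 0 ∧ 3 ≤ n := by
  simpa using rep3 (SpecialLinearGroup.toGL.comp ρ) (SpecialLinearGroup.toGL_injective.comp i)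
    (by simpa using hn)

theorem cf_conj {Y : Type*} [Group Y] {a b : MulAut Y} {A : Subgroup Y} (h : Cf a A)
    (e : IsConj a b) : ∃ A', Cf b A' := by
  obtain ⟨c, rfl⟩ := isConj_iff.1 e
  exact ⟨_, h.congr c⟩

theorem of_field (hn : n ≤ 5) {σ : RingAut F} (h1 : σ ≠ 1) (h2 : σ * σ = 1)
    {A : Subgroup (ProjectiveSpecialLinearGroup (Fin n) F)} (h : Cf (pslField (Fin n) F σ) A) :
    n = 3 ∧ Fintype.card F = 9 := by
  obtain ⟨ρ, i, -⟩ := free_lift h.ty
  obtain ⟨h3, n3⟩ := sl_rep (by omega) ρ i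
  obtain ⟨e⟩ := H58.QE.fix_field (n := n) σ
  have := Fintype.ofFinite (fixedSub σ)
  have c := card_of_fix (τ := slField (Fin n) F σ) h (fun _ => Iff.rfl)
    ⟨⟨sl_commutator_eq_top_of_three_le (by simpa)⟩, psl_isSimpleGroup_of_three_le (by simpa)⟩ e
  have c3 := H3.NSLU.card_psl_eq (fixedSub σ) (n := n) (by omega)
  have h4 := card_eq_card_fixedSub_pow σ
  rw [Nat.card_eq_fintype_card, Nat.card_eq_fintype_card,
    orderOf_eq_prime (p := 2) (by rw [pow_two, h2]) h1] at h4
  rw [show Nat.card (ProjectiveSpecialLinearGroup (Fin n) (fixedSub σ)) = 5616 from c] at c3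
  obtain ⟨f, f1, hf⟩ := card3 (F := fixedSub σ) (Subtype.ext h3)
  rw [hf] at c3 h4
  have d : 3 ^ (f * (n * (n - 1) / 2)) ∣ 5616 := by
    refine (Nat.Coprime.pow_left _ (?_ : Nat.Coprime 3 (n.gcd (3 ^ f - 1)))).dvd_of_dvd_mul_left
      (by rw [c3, pow_mul]; exact dvd_mul_right _ _)
    refine (Nat.Coprime.coprime_dvd_right (Nat.gcd_dvd_right _ _) ?_)
    exact (Nat.Coprime.coprime_dvd_left (dvd_pow_self 3 (by omega))
      ((Nat.coprime_self_sub_right (Nat.one_le_pow f 3 (by norm_num))).2 (Nat.coprime_one_right _)))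
  have l : f * (n * (n - 1) / 2) ≤ 3 := by
    by_contra! k
    exact absurd ((pow_dvd_pow 3 k).trans d) (by norm_num)
  interval_cases n
  · obtain rfl : f = 1 := by omega
    exact ⟨rfl, h4⟩
  all_goals omega

theorem no_gf (hn : n ≤ 5) {σ : RingAut F} (h1 : σ ≠ 1) (h2 : σ * σ = 1)
    {A : Subgroup (ProjectiveSpecialLinearGroup (Fin n) F)}
    (h : Cf (pslField (Fin n) F σ * pslGraph (Fin n) F) A) : False := by
  rw [show pslField (Fin n) F σ * pslGraph _ F = quotCenterAut _ (slField _ F σ * slGraph _ F) from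
      (map_mul (quotCenterAut _) (slField _ F σ) (slGraph _ F)).symm] at h
  obtain ⟨ρ, i, -, fx⟩ := cover h
  obtain ⟨p, hc⟩ := CharP.exists F
  obtain ⟨f, hp, hf⟩ := FiniteField.card F p
  have := Fact.mk hp
  obtain ⟨-, a, b⟩ := involution_eq_pow hf h1 h2
  exact no_su a hn (ρ.codRestrict _ fun m => by rw [← H58.QE.fix_gf b]; exact fx m)
    fun u v e => i (congrArg Subtype.val e)

theorem no_graph (hn : n ≤ 5) {J : GL (Fin n) F}
    {A : Subgroup (ProjectiveSpecialLinearGroup (Fin n) F)} (h : Cf (H58.pslGr J) A) : False := by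
  rw [show H58.pslGr J = quotCenterAut _ (slDiag _ F J⁻¹ * slGraph _ F) from
      (map_mul (quotCenterAut _) (slDiag _ F J⁻¹) (slGraph _ F)).symm] at h
  obtain ⟨ρ, i, -, fx⟩ := cover h
  have := H58.QE.graph_fix_iff J 1 (ρ x13)
  rw [map_one, mul_one] at this
  have := rep6 (SpecialLinearGroup.toGL.comp ρ) (SpecialLinearGroup.toGL_injective.comp i)
    (sl_rep (by omega) ρ i).1 (RingHom.id F) 0 (by simp)
    ((dual_of J.inv_mul (this.1 (fx x13))).trans (Polynomial.map_id).symm)
  simp at this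
  omega

theorem card_dvd {S G : Type*} [Group S] [Group G] {τ : MulAut S} {A : Subgroup (S ⧸ center S)}
    (h : Cf (quotCenterAut S τ) A) (ψ : G →* S) (h1 : ∀ u, τ (ψ u) = ψ u)
    (h2 : ∀ u, (∀ y : S, (y : S ⧸ center S) ∈ A → ψ u * y = y * ψ u) → u = 1) :
    Nat.card G ∣ 11232 := by
  obtain ⟨f, hf⟩ := h.act ((QuotientGroup.mk' (center S)).comp ψ) fun u =>
    congrArg QuotientGroup.mk (h1 u)
  rw [← card_aut]
  exact card_dvd_of_injective f ((injective_iff_map_eq_one _).2 fun u hu =>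
    h2 u fun y hy => H13.A7.comm_lift (QuotientGroup.mk' (center _)) (QuotientGroup.ker_mk' _).le
      (H14.quasi_sub_perfect h.qs) (fun y _ => QuotientGroup.mk'_surjective _ y) (hf _ hu) hy)

theorem of_diag (hodd : Odd (Fintype.card F)) (hn : n ≤ 5) {g : GL (Fin n) F}
    {A : Subgroup (ProjectiveSpecialLinearGroup (Fin n) F)} (h : Cf (pslDiag (Fin n) F g) A) :
    3 ≤ n ∧ Fintype.card F = 3 := by
  have h2 := two_ne hodd
  obtain ⟨c, hc⟩ := pslDiag_eq_one_iff.1 ((map_mul _ g g).trans h.sq)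
  have hg : g.1 * g.1 = c.1 • 1 := by
    rw [← Units.val_mul, ← hc]; ext i j; simp [one_apply, diagonal_apply]
  have hf : ∀ s : SpecialLinearGroup (Fin n) F, slDiag (Fin n) F g s = s ↔ s.1 * g.1 = g.1 * s.1 :=
    fun s => Subtype.ext_iff.trans ((Units.mul_inv_eq_iff_eq_mul g).trans eq_comm)
  obtain ⟨ρ, i, r, fx⟩ := cover (τ := slDiag (Fin n) F g) h
  obtain ⟨h3, n3⟩ := sl_rep (by omega) ρ i
  refine ⟨n3, ?_⟩
  have e1 := (hf _).1 (fx x13)
  have e2 := (hf _).1 (fx a13)
  have xA := r.le ⟨x13, rfl⟩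
  have aA := r.le ⟨a13, rfl⟩
  have e3 : ρ x13 ≠ 1 := fun e => rel13.2.2 (i (e.trans (map_one ρ).symm))
  have e4 : SpecialLinearGroup.toGL (ρ a13) * SpecialLinearGroup.toGL (ρ x13) *
      (SpecialLinearGroup.toGL (ρ a13))⁻¹ = SpecialLinearGroup.toGL (ρ x13) ^ 3 := by
    simp only [← map_inv, ← map_mul, rel13.1, map_pow]
  have e5 := gl_pow (show ρ x13 ^ 13 = 1 by rw [← map_pow, rel13.2.1, map_one])
  change (ρ x13 : _ ⧸ center _) ∈ A at xA
  change (ρ a13 : _ ⧸ center _) ∈ A at aA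
  generalize ρ x13 = x at *
  generalize ρ a13 = a at *
  by_cases hs : IsSquare c.1
  · obtain ⟨e, he⟩ := hs
    obtain ⟨e, -, w, hw, hw'⟩ := moves h2 (fun k => c.ne_zero (by rw [he, k, mul_zero]))
      (he ▸ hg) (fun k => e3 (Subtype.ext k))
    have h3' := la_sub h3 e4 e5 _ (Es_inv e1) (Es_inv e2) ⟨w, hw, hw'⟩
    have w0 : w ≠ 0 := by rintro rfl; exact hw' (mulVec_zero _)
    let T := Es g.1ᵀ e ⊓ LinearMap.ker (dotProductBilin F F w)
    have h4 : 2 ≤ finrank F T := by
      have a := (dotProductBilin F F w).finrank_range_add_finrank_ker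
      have b := (LinearMap.range (dotProductBilin F F w)).finrank_le
      have c := Submodule.finrank_sup_add_finrank_inf_eq (Es g.1ᵀ e)
        (LinearMap.ker (dotProductBilin F F w))
      have d := (Es g.1ᵀ e ⊔ LinearMap.ker (dotProductBilin F F w)).finrank_le
      rw [finrank_self] at b
      rw [rank_Es] at c
      unfold T
      omega
    have d0 : ∀ φ : T, φ.1 ⬝ᵥ w = 0 := fun φ => (dotProduct_comm _ _).trans φ.2.2
    let ψ : Multiplicative T →* SpecialLinearGroup (Fin n) F :=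
      MonoidHom.mk' (fun φ => ⟨1 + vecMulVec w φ.toAdd.1, by
        rw [vecMulVec_eq Unit, det_one_add_replicateCol_mul_replicateRow, d0, add_zero]⟩)
        fun φ χ => Subtype.ext (by
          change 1 + vecMulVec w (φ.toAdd.1 + χ.toAdd.1) = (1 + _) * (1 + _)
          rw [add_mul, mul_add, mul_add, vecMulVec_mul_vecMulVec, d0, zero_smul, vecMulVec_zero,
            vecMulVec_add]
          simp only [one_mul, mul_one]
          abel)
    have := card_dvd (τ := slDiag (Fin n) F g) h ψ (fun u => (hf (ψ u)).2 (by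
      change (1 + _) * _ = _ * (1 + _)
      rw [add_mul, mul_add, one_mul, mul_one, mul_vecMulVec, vecMulVec_mul, mem_Es.1 hw,
        ← mulVec_transpose, mem_Es.1 u.toAdd.2.1, smul_vecMulVec, vecMulVec_smul])) fun u c => by
      by_contra u1
      have u0 : u.toAdd.1 ≠ 0 := fun k => u1 (Subtype.ext k)
      have := la_sub h3 e4 e5 _ (line u0 (congrArg Subtype.val (c x xA)))
        (line u0 (congrArg Subtype.val (c a aA))) ⟨w, Submodule.mem_span_singleton_self w, hw'⟩
      rw [finrank_span_singleton w0] at this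
      omega
    rw [Nat.card_congr Multiplicative.toAdd, natCard_eq_pow_finrank (K := F),
      Nat.card_eq_fintype_card] at this
    obtain ⟨f, f1, e⟩ := card3 h3
    have d := (pow_dvd_pow _ h4).trans this
    rw [e, ← pow_mul] at d
    obtain rfl : f = 1 := by
      by_contra k
      exact absurd ((pow_dvd_pow 3 (show 4 ≤ f * 2 by omega)).trans d) (by norm_num)
    exact e
  · exfalso
    let K := AlgebraicClosure F
    let ι := algebraMap F K
    have i : Function.Injective ι := ι.injective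
    have r : ringChar F ≠ 2 := fun e => by
      have := FiniteField.even_card_of_char_two e
      rw [Nat.odd_iff] at hodd; omega
    have h3' := (FiniteField.pow_dichotomy r c.ne_zero).resolve_left
      (mt (FiniteField.isSquare_iff r c.ne_zero).2 hs)
    obtain ⟨e, he⟩ := IsAlgClosed.exists_eq_mul_self (ι c.1)
    have e0 : e ≠ 0 := fun k => c.ne_zero (i (by rw [he, k, mul_zero, map_zero]))
    have k2 : (2 : K) ≠ 0 := fun k => h2 (i (by rw [map_ofNat, k, map_zero]))
    have k3 : (3 : K) = 0 := by rw [← map_ofNat ι, h3, map_zero]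
    obtain ⟨e', he', w, hw, hw'⟩ := moves (g := g.1.map ι) (x := x.1.map ι) k2 e0
      (by rw [← Matrix.map_mul, hg, ← he]; ext i j; simp [one_apply, apply_ite ι])
      (fun k => e3 (Subtype.ext (H13.A7.map_inj (k.trans (Matrix.map_one _ ι.map_zero ι.map_one).symm))))
    let θ := FiniteField.frobeniusAlgHom F K
    have t1 : θ e' = -e' := by
      have : e' * e' = ι c.1 := by
        rcases he' with rfl | rfl
        exacts [he.symm, (neg_mul_neg _ _).trans he.symm]
      change e' ^ _ = _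
      rw [← Nat.two_mul_div_two_add_one_of_odd hodd, pow_succ, pow_mul, pow_two, this, ← map_pow, h3',
        map_neg, map_one, neg_one_mul]
    have t2 : ∀ M : Matrix (Fin n) (Fin n) F, M.map ι *ᵥ (θ ∘ w) = θ ∘ (M.map ι *ᵥ w) := fun M => by
      ext j
      have := RingHom.map_mulVec (θ : K →+* K) (M.map ι) w j
      rw [Matrix.map_map, show (θ : K →+* K) ∘ ι = ι from funext θ.commutes] at this
      exact this.symm
    have up := fun (e : K) (k : ∃ w ∈ Es (g.1.map ι) e, x.1.map ι *ᵥ w ≠ w) =>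
      la_sub k3 (up3 e4) (H13.A7.up_pow e5) _
        (Es_inv (by exact (Matrix.map_mul.symm.trans (congrArg (·.map ι) e1)).trans Matrix.map_mul))
        (Es_inv (by exact (Matrix.map_mul.symm.trans (congrArg (·.map ι) e2)).trans Matrix.map_mul)) k
    have a1 := up _ ⟨w, hw, hw'⟩
    have a2 := up (-e') ⟨θ ∘ w, by
      rw [mem_Es, t2, mem_Es.1 hw, ← t1]
      ext j
      simp, fun k => hw' (funext fun j => θ.toRingHom.injective (congrFun ((t2 _).symm.trans k) j))⟩
    have a3 := Submodule.finrank_add_finrank_le_of_disjoint (s := Es (g.1.map ι) e')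
      (t := Es (g.1.map ι) (-e')) (Submodule.disjoint_def.2 fun v b1 b2 => by
        have e1 : e' ≠ 0 := by rcases he' with rfl | rfl <;> simpa using e0
        refine smul_right_injective _ (mul_ne_zero k2 e1) ?_
        linear_combination (norm := module) mem_Es.1 b2 - mem_Es.1 b1)
    rw [finrank_fin_fun] at a3
    have := (add_le_add a1 a2).trans a3
    omega

theorem jobL : JobL := fun F _ _ hodd n h2 h5 σ A h => by
  rcases H58.QE.reps h2 h.sq with ⟨g, rfl⟩ | ⟨s, s1, s2, e⟩ | ⟨-, J, rfl⟩ | ⟨-, s, s1, s2, e⟩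
  · obtain ⟨n3, c⟩ := of_diag hodd h5 h
    have e := fun n => H55.pslCongr (n := Fin n) (ZMod.ringEquivOfPrime F Nat.prime_three c).symm
    interval_cases n
    · obtain rfl : A = ⊤ := eq_top_of_le_card _ (by
        rw [h.card, Nat.card_congr ((e 3).trans eM).toEquiv, card_M])
      exact absurd (MulEquiv.ext fun x => h.fix x (mem_top x)) h.ne
    exacts [.inr (.inl ⟨e 4⟩), .inr (.inr ⟨e 5⟩)]
  · obtain ⟨B, k⟩ := cf_conj h e
    obtain ⟨rfl, c⟩ := of_field h5 s1 s2 k
    exact .inl ⟨F, _, _, c, ⟨MulEquiv.refl _⟩⟩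
  · exact (no_graph h5 h).elim
  · obtain ⟨B, k⟩ := cf_conj h e
    exact (no_gf h5 s1 s2 k).elim

end H94.L3
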