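import Cfsg.Agent.H94.L3Cl
import Cfsg.Agent.H49.A7G2
import Cfsg.Agent.H37.A7H2

/-! Chapter LIST of S3140: involution centralizers of shape `(SL₂ ∘ SL₂).2`. -/

set_option autoImplicit false
set_option linter.unusedSectionVars false

namespace H94.L3

open Subgroup Cfsg H61
open scoped MatrixGroups

theorem sl_ca {F : Type} [Field F] {c u v : SL(2, F)} (hu : c * u = u * c) (hv : c * v = v * c)
    (h : u * v ≠ v * u) : c = 1 ∨ c = -1 := by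
  simp only [ne_eq, sl_ext_iff, sl_mul_apply] at hu hv h
  refine sl_eq_of_offdiag ?_ ?_ ?_ <;> by_contra k <;> apply h <;> grind

theorem odd_gen {F : Type} [Field F] [Fintype F] (o : Odd (Fintype.card F)) (H : Subgroup SL(2, F))
    (h : ∀ a, Odd (orderOf a) → a ∈ H) : H = ⊤ :=
  H57.sl_eq_top_of_transvections H fun _ _ hij c => h _ (o.of_dvd_nat ((orderOf_map_dvd
    (MonoidHom.mk' (fun a : Multiplicative F => Matrix.SpecialLinearGroup.transvection hij a.toAdd)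
      fun _ _ => Matrix.SpecialLinearGroup.transvection_add hij _ _) (.ofAdd c)).trans
    (by simpa using orderOf_dvd_card (x := Multiplicative.ofAdd c))))

variable {Y : Type} [Group Y] [Finite Y] {K L : Type} [Field K] [Fintype K] [Field L] [Fintype L]

theorem o2_map (θ : MulAut Y) {w u : Y} (e : θ w = w) (h : u ∈ O2 w) : θ u ∈ O2 w :=
  (closure_le ((O2 w).comap θ.toMonoidHom)).2 (fun x hx => subset_closure
    ⟨by change θ x * w = w * θ x; rw [← e, ← map_mul, hx.1, map_mul],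
      (θ.orderOf_eq x).symm ▸ hx.2⟩) h

/-- `C(w) = (SL₂(K) ∘ SL₂(L)).2`. -/
structure Hy (w : Y) (φ : SL(2, K) →* Y) (ψ : SL(2, L) →* Y) : Prop where
  o₁ : Odd (Fintype.card K)
  o₂ : Odd (Fintype.card L)
  i₁ : Function.Injective φ
  i₂ : Function.Injective ψ
  comm : ∀ a b, φ a * ψ b = ψ b * φ a
  e₁ : φ (-1) = w
  e₂ : ψ (-1) = w
  idx : (φ.range ⊔ ψ.range).relIndex (centralizer {w}) = 2
  n₁ : centralizer {w} ≤ normalizer (φ.range : Set Y)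
  n₂ : centralizer {w} ≤ normalizer (ψ.range : Set Y)

namespace Hy

variable {w : Y} {φ : SL(2, K) →* Y} {ψ : SL(2, L) →* Y} (h : Hy w φ ψ)
include h

theorem symm : Hy w ψ φ :=
  ⟨h.o₂, h.o₁, h.i₂, h.i₁, fun a b => (h.comm b a).symm, h.e₂, h.e₁, sup_comm φ.range _ ▸ h.idx,
    h.n₂, h.n₁⟩

theorem ne : w ≠ 1 := fun e => sl_neg_one_ne_one (H12.LC.two_ne_zero' h.o₁)
  (h.i₁ ((h.e₁.trans e).trans (map_one _).symm))

theorem ord : orderOf w = 2 :=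
  orderOf_eq_prime (by rw [← h.e₁, ← map_pow, pow_two, sl_neg_one_mul_self, map_one]) h.ne

theorem mem (a : SL(2, K)) : φ a ∈ O2 w :=
  (odd_gen h.o₁ ((O2 w).comap φ) fun a o => subset_closure
    ⟨by rw [← h.e₂, h.comm], (orderOf_injective φ h.i₁ a).symm ▸ o⟩).ge (mem_top a)

theorem dec {u : Y} (hu : u ∈ O2 w) : ∃ a b, u = φ a * ψ b :=
  H49.A7.mem_sup_range h.comm ((closure_le _).2 (fun x hx => by
    have c : x ∈ centralizer {w} := mem_centralizer_singleton_iff.2 hx.1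
    obtain ⟨m, hm⟩ := hx.2
    have e : x = ((x * x) ^ m)⁻¹ := by
      rw [eq_inv_iff_mul_eq_one, ← pow_two, ← pow_mul, ← pow_succ', ← hm, pow_orderOf_eq_one]
    exact e ▸ inv_mem (pow_mem ((H37.A7.mul_rel h.idx c c).2 Iff.rfl) m)) hu)

theorem pm {a : SL(2, K)} (k : a = 1 ∨ a = -1) (b : SL(2, L)) : φ a * ψ b ∈ ψ.range := by
  rcases k with rfl | rfl
  exacts [⟨b, by rw [map_one, one_mul]⟩, ⟨-1 * b, by rw [map_mul, h.e₁, h.e₂]⟩]

theorem int {a : SL(2, K)} {b : SL(2, L)} (k : φ a = ψ b) : a = 1 ∨ a = -1 :=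
  sl_mem_center_iff.1 (mem_center_iff.2 fun g => h.i₁ (by rw [map_mul, map_mul, k, h.comm]))

theorem sq_mem {u : Y} (hu : u ∈ O2 w) (e : u * u = w) : u ∈ φ.range ∨ u ∈ ψ.range := by
  obtain ⟨a, b, rfl⟩ := h.dec hu
  rw [← pow_two, Commute.mul_pow (h.comm a b), ← map_pow, ← map_pow, pow_two, pow_two] at e
  rcases h.int (a := a * a) (b := -1 * (b * b)⁻¹) (by
    rw [map_mul ψ, h.e₂, ← e, map_inv, mul_inv_cancel_right]) with k | k
  · exact .inr (h.pm (sl_eq_of_mul_self_eq_one (H12.LC.two_ne_zero' h.o₁) k) b)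
  · rw [k, h.e₁, mul_eq_left, map_eq_one_iff _ h.i₂] at e
    exact .inl (h.comm a b ▸ h.symm.pm (sl_eq_of_mul_self_eq_one (H12.LC.two_ne_zero' h.o₂) e) a)

theorem both {i j : Y} (hi : i ∈ O2 w) (hj : j ∈ O2 w) (ii : i * i = w) (jj : j * j = w)
    (n : i * j ≠ j * i) : (i ∈ φ.range ∧ j ∈ φ.range) ∨ (i ∈ ψ.range ∧ j ∈ ψ.range) := by
  rcases h.sq_mem hi ii with ⟨a, rfl⟩ | ⟨a, rfl⟩ <;> rcases h.sq_mem hj jj with ⟨b, rfl⟩ | ⟨b, rfl⟩
  exacts [.inl ⟨⟨a, rfl⟩, b, rfl⟩, absurd (h.comm a b) n, absurd (h.comm b a).symm n,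
    .inr ⟨⟨a, rfl⟩, b, rfl⟩]

theorem cen {c : Y} (hc : c ∈ O2 w) {u v : SL(2, K)} (hu : c * φ u = φ u * c)
    (hv : c * φ v = φ v * c) (n : u * v ≠ v * u) : c ∈ ψ.range := by
  obtain ⟨a, b, rfl⟩ := h.dec hc
  have k : ∀ {u}, φ a * ψ b * φ u = φ u * (φ a * ψ b) → a * u = u * a := fun {u} e => h.i₁ (by
    rw [mul_assoc, ← h.comm, ← mul_assoc, ← mul_assoc, mul_left_inj] at e
    rwa [map_mul, map_mul])
  exact h.pm (sl_ca (k hu) (k hv) n) b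

theorem pres {θ : MulAut Y} (e : θ w = w) {u v : SL(2, K)} (hu : θ (φ u) = φ u)
    (hv : θ (φ v) = φ v) (n : u * v ≠ v * u) :
    (∀ a, θ (φ a) ∈ φ.range) ∧ ∀ b, θ (ψ b) ∈ ψ.range := by
  have k : ∀ {θ : MulAut Y}, θ w = w → θ (φ u) = φ u → θ (φ v) = φ v → ∀ b, θ (ψ b) ∈ ψ.range :=
    fun {θ} e hu hv b => h.cen (o2_map θ e (h.symm.mem b))
      (by rw [← hu, ← map_mul, ← map_mul, h.comm]) (by rw [← hv, ← map_mul, ← map_mul, h.comm]) n
  refine ⟨fun a => ?_, k e hu hv⟩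
  have c : ∀ b, θ (φ a) * ψ b = ψ b * θ (φ a) := fun b => by
    obtain ⟨b', e'⟩ := k (θ := θ⁻¹) (θ.symm_apply_eq.2 e.symm) (θ.symm_apply_eq.2 hu.symm)
      (θ.symm_apply_eq.2 hv.symm) b
    rw [θ.symm_apply_eq.1 e'.symm, ← map_mul, ← map_mul, h.comm]
  obtain ⟨i, j, -, jj, ij⟩ := exists_q8 L
  refine h.symm.cen (o2_map θ e (h.mem a)) (c i) (c j) fun m => ?_
  rw [m, mul_inv_cancel_right, eq_inv_iff_mul_eq_one, jj] at ij
  exact sl_neg_one_ne_one (H12.LC.two_ne_zero' h.o₂) ij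

theorem key {θ : MulAut Y} (e : θ w = w) (p : ∀ a, θ (φ a) ∈ φ.range) {i j : Y} (hi : i ∈ φ.range)
    (hj : j ∈ φ.range) (ii : i * i = w) (n : i * j ≠ j * i) (ci : Commute (θ i) i)
    (cj : Commute (θ i) j) : False := by
  obtain ⟨u, rfl⟩ := hi
  obtain ⟨v, rfl⟩ := hj
  obtain ⟨c, hc⟩ := p u
  rw [← hc] at ci cj
  have : c * c = 1 := by
    rcases sl_ca (c := c) (u := u) (v := v) (h.i₁ (by rw [map_mul, map_mul, ci.eq]))
      (h.i₁ (by rw [map_mul, map_mul, cj.eq])) (fun m => n (by rw [← map_mul, m, map_mul])) with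
      rfl | rfl
    exacts [mul_one _, sl_neg_one_mul_self]
  exact h.ne (by rw [← e, ← ii, map_mul, ← hc, ← map_mul, this, map_one])

/-- `L₃(3)` does not lie in `C(w)`. -/
theorem free (η : M →* Y) (i : Function.Injective η) (c : η.range ≤ centralizer {w}) : False := by
  obtain ⟨ρ, hρ, -⟩ := exists_lift (φ.noncommCoprod ψ h.comm) (fun ⟨a, b⟩ k => by
      have k : φ a * ψ b = 1 := k
      have k1 := sl_mem_center_iff.2 (h.int (a := a) (b := b⁻¹) (by rw [map_inv, eq_inv_iff_mul_eq_one, k]))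
      have k2 := sl_mem_center_iff.2 (h.symm.int (a := b) (b := a⁻¹) (by
        rw [map_inv, eq_inv_iff_mul_eq_one, ← h.comm, k]))
      exact mem_center_iff.2 fun g => Prod.ext (mem_center_iff.1 k1 _) (mem_center_iff.1 k2 _))
    η i ((H37.A7.perf_le h.idx (qs_of (MonoidHom.ofInjective i).symm) c).trans
      (MonoidHom.noncommCoprod_range φ ψ h.comm).ge)
  have n : ρ e1 ≠ 1 := (map_eq_one_iff _ hρ).not.2 (by decide +kernel)
  by_cases k : (ρ e1).1 = 1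
  · exact absurd (sl_rep (by norm_num) _ (inj_of_ne ((MonoidHom.snd _ _).comp ρ)
      ⟨e1, fun m => n (Prod.ext k m)⟩)).2 (by norm_num)
  · exact absurd (sl_rep (by norm_num) _ (inj_of_ne ((MonoidHom.fst _ _).comp ρ) ⟨e1, k⟩)).2
      (by norm_num)

end Hy

variable {σ : MulAut Y} {A : Subgroup Y}

theorem Cf.not_inner (h : Cf σ A) (one : ∀ a b : Y, orderOf a = 2 → orderOf b = 2 → IsConj a b)
    (hc : center Y = ⊥) {w : Y} {φ : SL(2, K) →* Y} {ψ : SL(2, L) →* Y} (k : Hy w φ ψ) (y : Y) :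
    σ ≠ MulAut.conj y := by
  rintro rfl
  obtain ⟨η, i, rfl⟩ := hom_of h.ty
  obtain ⟨g, rfl⟩ := isConj_iff.1 (one y w (orderOf_eq_prime (by
    rw [← mem_bot, ← hc, mem_center_iff]
    intro g
    have := DFunLike.congr_fun h.sq g
    rw [← map_mul, ← pow_two] at this
    exact (mul_inv_eq_iff_eq_mul.1 this).symm) fun e => h.ne (by rw [e, map_one])) k.ord)
  refine k.free ((MulAut.conj g).toMonoidHom.comp η) ((MulAut.conj g).injective.comp i) ?_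
  rintro _ ⟨m, rfl⟩
  rw [mem_centralizer_singleton_iff]
  change g * η m * g⁻¹ * _ = _ * (g * η m * g⁻¹)
  rw [conj_mul, conj_mul, mul_inv_eq_iff_eq_mul.1 (h.fix _ ⟨m, rfl⟩)]

def z2 : M := ⟨!![2, 0, 0; 0, 2, 0; 0, 0, 1], by decide⟩
def u3 : M := ⟨!![1, 1, 0; 0, 1, 0; 0, 0, 1], by decide⟩
def l3 : M := ⟨!![1, 0, 0; 2, 1, 0; 0, 0, 1], by decide⟩

theorem rel3 : z2 ^ 2 = 1 ∧ z2 ≠ 1 ∧ u3 ^ 3 = 1 ∧ l3 ^ 3 = 1 ∧ u3 * z2 = z2 * u3 ∧ l3 * z2 = z2 * l3 ∧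
    u3 * l3 * u3 * (u3 * l3 * u3) = z2 ∧ u3 * u3 * l3 * (u3 * u3 * l3) = z2 ∧
    u3 * l3 * u3 * (u3 * u3 * l3) ≠ u3 * u3 * l3 * (u3 * l3 * u3) := by decide +kernel

theorem Cf.not_sw (h : Cf σ A) (one : ∀ a b : Y, orderOf a = 2 → orderOf b = 2 → IsConj a b)
    (hy : ∀ w : Y, orderOf w = 2 → ∃ φ ψ : SL(2, K) →* Y, Hy w φ ψ) : ¬ Sw σ := by
  rintro ⟨g, w, i, j, w1, ww, ii, jj, n, hi, hj, e, ci, cj⟩
  have ow : orderOf w = 2 := orderOf_eq_prime (by rwa [pow_two]) w1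
  obtain ⟨φ, ψ, k⟩ := hy w ow
  obtain ⟨η, hη, rfl⟩ := hom_of h.ty
  obtain ⟨r1, r2, r3, r4, r5, r6, r7, r8, r9⟩ := rel3
  obtain ⟨y, hz⟩ := isConj_iff.1 (one _ w ((orderOf_injective η hη z2).trans
    (orderOf_eq_prime r1 r2)) ow)
  obtain ⟨ζ, hζ, ez, τ, fx, cv⟩ : ∃ ζ : M →* Y, Function.Injective ζ ∧ ζ z2 = w ∧ ∃ τ : MulAut Y,
      (∀ m, τ (ζ m) = ζ m) ∧ ∀ x, g * σ x * g⁻¹ = g * σ y * y⁻¹ * τ x * (g * σ y * y⁻¹)⁻¹ :=
    ⟨(MulAut.conj y).toMonoidHom.comp η, (MulAut.conj y).injective.comp hη, hz,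
      MulAut.conj y * σ * (MulAut.conj y)⁻¹, fun m => by
        simp [h.fix _ ⟨m, rfl⟩, mul_assoc], fun x => by simp [mul_assoc]⟩
  have tw : τ w = w := ez ▸ fx z2
  have o : ∀ {m}, m ^ 3 = 1 → m * z2 = z2 * m → ζ m ∈ O2 w := fun {m} a b => subset_closure
    ⟨by rw [← ez, ← map_mul, b, map_mul], Odd.of_dvd_nat (by decide)
      (orderOf_dvd_of_pow_eq_one (by rw [← map_pow, a, map_one]) : _ ∣ 3)⟩
  have p : (∀ a, τ (φ a) ∈ φ.range) ∧ ∀ b, τ (ψ b) ∈ ψ.range := by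
    have nc := hζ.ne r9
    rw [map_mul, map_mul ζ (u3 * u3 * l3)] at nc
    rcases k.both (i := ζ (u3 * l3 * u3)) (j := ζ (u3 * u3 * l3))
      (by simpa only [map_mul] using mul_mem (mul_mem (o r3 r5) (o r4 r6)) (o r3 r5))
      (by simpa only [map_mul] using mul_mem (mul_mem (o r3 r5) (o r3 r5)) (o r4 r6))
      (by rw [← map_mul, r7, ez]) (by rw [← map_mul, r8, ez]) nc with
      ⟨⟨u, hu⟩, v, hv⟩ | ⟨⟨u, hu⟩, v, hv⟩
    · exact k.pres tw (hu ▸ fx _) (hv ▸ fx _) fun m => nc (by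
        rw [← hu, ← hv, ← map_mul, m, map_mul])
    · exact (k.symm.pres tw (hu ▸ fx _) (hv ▸ fx _) fun m => nc (by
        rw [← hu, ← hv, ← map_mul, m, map_mul])).symm
  have c : g * σ y * y⁻¹ ∈ centralizer {w} := by
    rw [cv, tw] at e
    exact mem_centralizer_singleton_iff.2 (mul_inv_eq_iff_eq_mul.1 e)
  rcases k.both hi hj ii jj n with ⟨a, b⟩ | ⟨a, b⟩
  · exact k.key (θ := MulAut.conj g * σ) e
      (fun u => cv _ ▸ (mem_normalizer_iff.1 (k.n₁ c) _).1 (p.1 u) :) a b ii n ci cj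
  · exact k.symm.key (θ := MulAut.conj g * σ) e
      (fun u => cv _ ▸ (mem_normalizer_iff.1 (k.n₂ c) _).1 (p.2 u) :) a b ii n ci cj

end H94.L3
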