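import Cfsg.Agent.H94.L3Spec
import Cfsg.Agent.H13.A7LA

/-! Chapter LIST of S3140: small representations of `L₃(3)`. -/

set_option autoImplicit false

namespace H94.L3

open Matrix Polynomial H13.A7
open scoped MatrixGroups

def x13 : M := ⟨!![0, 0, 1; 1, 0, 0; 0, 1, 2], by decide⟩
def a13 : M := ⟨!![0, 0, 1; 1, 0, 2; 1, 1, 0], by decide⟩
def e1 : M := ⟨!![1, 0, 1; 0, 1, 0; 0, 0, 1], by decide⟩
def e2 : M := ⟨!![1, 0, 0; 0, 1, 1; 0, 0, 1], by decide⟩
def b8 : M := ⟨!![1, 2, 0; 2, 0, 0; 0, 0, 2], by decide⟩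

theorem rel13 : a13 * x13 * a13⁻¹ = x13 ^ 3 ∧ x13 ^ 13 = 1 ∧ x13 ≠ 1 := by
  rw [mul_inv_eq_iff_eq_mul]; decide +kernel

theorem rel8 : e1 * b8 = b8 * e2 ∧ e2 * b8 = b8 * (e1 * e2) ∧ e1 * e2 = e2 * e1 ∧ e1 ^ 3 = 1 ∧
    e2 ^ 3 = 1 ∧ e2 ≠ 1 := by decide +kernel

section
variable {K : Type*} [Field K] {m : Type*} [Fintype m] [DecidableEq m]

theorem ev_cube {x a : GL m K} (h : a * x * a⁻¹ = x ^ 3) {z : K} (hz : Ev x.val z) :
    Ev x.val (z ^ 3) := by
  obtain ⟨v, hv, hz⟩ := hz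
  refine ⟨_, inv_mulVec_ne a hv, ?_⟩
  have e : x * a⁻¹ = a⁻¹ * x ^ 3 := by rw [← h]; group
  rw [Matrix.mulVec_mulVec, ← Units.val_mul, e, Units.val_mul, ← Matrix.mulVec_mulVec,
    Units.val_pow_eq_pow_val, pow_mulVec hz, Matrix.mulVec_smul]

theorem ev_cubes {x a : GL m K} (h : a * x * a⁻¹ = x ^ 3) {z : K} (hz : Ev x.val z) (k : ℕ) :
    Ev x.val (z ^ 3 ^ k) := by
  induction k with
  | zero => simpa using hz
  | succ k ih => rw [pow_succ, pow_mul]; exact ev_cube h ih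

theorem c13 (h3 : (3 : K) = 0) : ((13 : ℕ) : AlgebraicClosure K) ≠ 0 :=
  cast_ne (p := 13) fun e => one_ne_zero (by push_cast at e; linear_combination e - 4 * h3 : (1 : K) = 0)

theorem up3 {x a : GL m K} (h : a * x * a⁻¹ = x ^ 3) :
    up m K a * up m K x * (up m K a)⁻¹ = up m K x ^ 3 := by
  rw [← map_inv, ← map_mul, ← map_mul, h, map_pow]

theorem la3 {x a : GL m K} (h3 : (3 : K) = 0) (h1 : x ≠ 1) (h : a * x * a⁻¹ = x ^ 3)
    (hp : x ^ 13 = 1) : 3 ≤ Fintype.card m :=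
  le_of_ev (by norm_num : Nat.Prime 13) (c13 h3) (up_pow hp) (up_ne h1) {1, 3, 9} (by decide)
    fun z hz i hi => by
      simp only [Finset.mem_insert, Finset.mem_singleton] at hi
      rcases hi with rfl | rfl | rfl
      exacts [ev_cubes (up3 h) hz 0, ev_cubes (up3 h) hz 1, ev_cubes (up3 h) hz 2]

theorem la6 {x a : GL m K} (h3 : (3 : K) = 0) (h1 : x ≠ 1) (h : a * x * a⁻¹ = x ^ 3)
    (hp : x ^ 13 = 1) (φ : K →+* K) (k : ℕ) (hφ : ∀ t, φ t = t ^ 3 ^ k)
    (hc : (x⁻¹).val.charpoly = x.val.charpoly.map φ) : 6 ≤ Fintype.card m := by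
  haveI : Fact (Nat.Prime 3) := ⟨Nat.prime_three⟩
  haveI : CharP K 3 := (CharP.charP_iff_prime_eq_zero Nat.prime_three).2 (by exact_mod_cast h3)
  let L := AlgebraicClosure K
  let ι := algebraMap K L
  let f := iterateFrobenius L 3 k
  have e : ι.comp φ = f.comp ι := RingHom.ext fun t => by
    simp [f, hφ, iterateFrobenius_def]
  have inv : ∀ z, Ev (up m K x).val z → Ev (up m K x).val (z ^ 3 ^ k)⁻¹ := fun z hz => by
    have : Ev ((up m K x)⁻¹).val (z ^ 3 ^ k) := by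
      rw [ev_iff, ← map_inv, up_val, Matrix.charpoly_map, hc, Polynomial.map_map,
        mem_roots (((charpoly_monic _).map _).ne_zero)]
      rw [ev_iff, up_val, Matrix.charpoly_map, mem_roots (((charpoly_monic _).map _).ne_zero)] at hz
      change IsRoot (Polynomial.map (ι.comp φ) _) (f z)
      rw [e, ← Polynomial.map_map]
      exact hz.map
    simpa using this.inv
  refine le_of_ev (by norm_num : Nat.Prime 13) (c13 h3) (up_pow hp) (up_ne h1) {1, 3, 9, 12, 10, 4}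
    (by decide) fun z hz i hi => ?_
  have z13 : z ^ 13 = 1 := hz.pow_eq_one (by
    rw [← Units.val_pow_eq_pow_val, up_pow hp, Units.val_one])
  have md : ∀ n, z ^ n = z ^ (n % 13) := fun n => by
    conv_lhs => rw [← Nat.div_add_mod n 13, pow_add, pow_mul, z13, one_pow, one_mul]
  have h12 : Ev (up m K x).val (z ^ 12) := by
    have := inv _ (ev_cubes (up3 h) hz (2 * k))
    rw [← pow_mul, ← pow_add, md, show 2 * k + k = 3 * k by ring, pow_mul, Nat.pow_mod] at this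
    norm_num at this
    rwa [inv_eq_of_mul_eq_one_right (show z * z ^ 12 = 1 by rw [← pow_succ', z13])] at this
  simp only [Finset.mem_insert, Finset.mem_singleton] at hi
  rcases hi with rfl | rfl | rfl | rfl | rfl | rfl
  exacts [ev_cubes (up3 h) hz 0, ev_cubes (up3 h) hz 1, ev_cubes (up3 h) hz 2, h12,
    by have := ev_cubes (up3 h) h12 1; rwa [← pow_mul, md] at this,
    by have := ev_cubes (up3 h) h12 2; rwa [← pow_mul, md] at this]

theorem la_sub {x a : GL m K} (h3 : (3 : K) = 0) (h : a * x * a⁻¹ = x ^ 3) (hp : x ^ 13 = 1)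
    (W : Submodule K (m → K)) (hx : ∀ w ∈ W, x.val *ᵥ w ∈ W) (ha : ∀ w ∈ W, a.val *ᵥ w ∈ W)
    (hw : ∃ w ∈ W, x.val *ᵥ w ≠ w) : 3 ≤ Module.finrank K W := by
  let S : Subgroup (GL m K) :=
    { carrier := {g | ∀ w, w ∈ W ↔ g.val *ᵥ w ∈ W}
      one_mem' := fun w => by simp
      mul_mem' := fun {g g'} hg hg' w => by
        rw [Units.val_mul, ← mulVec_mulVec, ← hg, ← hg']
      inv_mem' := fun {g} hg w => by
        rw [hg ((g⁻¹).val *ᵥ w), mulVec_mulVec, ← Units.val_mul, mul_inv_cancel, Units.val_one, one_mulVec] }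
  have mem : ∀ g : GL m K, (∀ w ∈ W, g.val *ᵥ w ∈ W) → g ∈ S := fun g hg w => ⟨hg w, fun k => by
    have hg' : ∀ w ∈ W, Matrix.toLin' g.val w ∈ W := hg
    have i : ∀ u v, g.val *ᵥ u = g.val *ᵥ v → u = v := fun u v e => by
      have := congrArg ((g⁻¹).val *ᵥ ·) e
      simpa only [mulVec_mulVec, ← Units.val_mul, inv_mul_cancel, Units.val_one, one_mulVec] using this
    obtain ⟨u, hu⟩ := (LinearMap.injective_iff_surjective.1 (show Function.Injective
      ((Matrix.toLin' g.val).restrict hg') from fun u v e =>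
        Subtype.ext (i _ _ (congrArg Subtype.val e)))) ⟨_, k⟩
    exact i _ _ (congrArg Subtype.val hu) ▸ u.2⟩
  let r : S →* Module.End K W :=
    { toFun := fun g => (Matrix.toLin' g.1.val).restrict fun w hw => (g.2 w).1 hw
      map_one' := LinearMap.ext fun w => Subtype.ext (one_mulVec _)
      map_mul' := fun g g' => LinearMap.ext fun w => Subtype.ext (mulVec_mulVec _ _ _).symm }
  let τ : S →* GL (Fin (Module.finrank K W)) K :=
    ((LinearMap.toMatrixAlgEquiv (Module.finBasis K W)).toMulEquiv.toMonoidHom.comp r).toHomUnits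
  have := la3 (x := τ ⟨x, mem x hx⟩) (a := τ ⟨a, mem a ha⟩) h3 (fun e => by
    obtain ⟨w, h1, h2⟩ := hw
    have e' : r ⟨x, mem x hx⟩ = 1 := (LinearMap.toMatrixAlgEquiv (Module.finBasis K W)).injective
      ((congrArg Units.val e).trans (map_one _).symm)
    exact h2 (congrArg Subtype.val (LinearMap.congr_fun e' ⟨w, h1⟩)))
    (by rw [← map_inv, ← map_mul, ← map_mul, ← map_pow]; exact congrArg τ (Subtype.ext h))
    (by rw [← map_pow, ← map_one τ]; exact congrArg τ (Subtype.ext hp))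
  simpa using this

theorem eight [IsAlgClosed K] (h3 : (3 : K) ≠ 0) {X Y : Matrix m m K} {b : GL m K}
    (h1 : X * b.val = b.val * Y) (h2 : Y * b.val = b.val * (X * Y)) (hc : X * Y = Y * X)
    (hX : X ^ 3 = 1) (hY : Y ^ 3 = 1) (hn : Y ≠ 1) : 8 ≤ Fintype.card m := by
  classical
  let J : K → K → Prop := fun α β => ∃ v, v ≠ 0 ∧ X *ᵥ v = α • v ∧ Y *ᵥ v = β • v
  have st : ∀ {α β}, J α β → J β (α * β) := by
    rintro α β ⟨v, h0, e, e'⟩
    refine ⟨b.val *ᵥ v, by simpa using inv_mulVec_ne b⁻¹ h0, ?_, ?_⟩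
    · rw [mulVec_mulVec, h1, ← mulVec_mulVec, e', mulVec_smul]
    · rw [mulVec_mulVec, h2, ← mulVec_mulVec, ← mulVec_mulVec, e', mulVec_smul, e, smul_smul,
        mulVec_smul, mul_comm]
  obtain ⟨β, b1, v, v0, hv⟩ := exists_ev_ne_one (p := 3) (by exact_mod_cast h3) hY hn
  obtain ⟨α, hα⟩ : ∃ α, J α β := by
    let W := Module.End.eigenspace (Matrix.toLin' Y : Module.End K (m → K)) β
    have hW : ∀ w, w ∈ W ↔ Y *ᵥ w = β • w := fun w => Module.End.mem_eigenspace_iff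
    have iW : ∀ w ∈ W, Matrix.toLin' X w ∈ W := fun w hw => (hW _).2 (by
      rw [Matrix.toLin'_apply, mulVec_mulVec, ← hc, ← mulVec_mulVec, (hW w).1 hw, mulVec_smul])
    haveI : Nontrivial W := ⟨⟨⟨v, (hW v).2 hv⟩, 0, fun e => v0 (congrArg Subtype.val e)⟩⟩
    obtain ⟨α, hα⟩ := Module.End.exists_eigenvalue ((Matrix.toLin' X).restrict iW)
    obtain ⟨u, hu⟩ := hα.exists_hasEigenvector
    exact ⟨α, u, fun e => hu.2 (Subtype.ext e), congrArg Subtype.val hu.apply_eq_smul, (hW u).1 u.2⟩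
  have β3 : β ^ 3 = 1 := Ev.pow_eq_one ⟨v, v0, hv⟩ hY
  have q : ∀ {β : K}, β ≠ 1 → β ^ 3 = 1 → β ^ 2 + β + 1 = 0 := fun {β} b1 β3 =>
    mul_left_cancel₀ (sub_ne_zero.2 b1) (by linear_combination β3)
  obtain ⟨ω, o1, o3, hω⟩ : ∃ ω, ω ≠ 1 ∧ ω ^ 3 = 1 ∧ J 1 ω := by
    have α3 : α ^ 3 = 1 := let ⟨u, a, c, _⟩ := hα; Ev.pow_eq_one ⟨u, a, c⟩ hX
    have : (α - 1) * (α - β) * (α - β ^ 2) = 0 := by
      linear_combination α3 - (α ^ 2 - α) * q b1 β3 + (α - 1) * β3
    rcases mul_eq_zero.1 this with e | e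
    rcases mul_eq_zero.1 e with e | e
    · exact ⟨β, b1, β3, sub_eq_zero.1 e ▸ hα⟩
    · refine ⟨β ^ 2, fun k => b1 (by rw [← β3, pow_succ, k, one_mul]), by
        rw [← pow_mul, mul_comm, pow_mul, β3, one_pow], ?_⟩
      have := st (st (st (sub_eq_zero.1 e ▸ hα)))
      rwa [show β * (β * β) = 1 by linear_combination β3, mul_one, ← sq] at this
    · have := st (st (sub_eq_zero.1 e ▸ hα))
      rw [show β ^ 2 * β = 1 by linear_combination β3, mul_one] at this
      exact ⟨β, b1, β3, this⟩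
  have qω := q o1 o3
  obtain ⟨c, c0, c6⟩ : ∃ c : K, c ≠ 0 ∧ c ^ 6 ≠ 1 := by
    obtain ⟨c, hc⟩ := Infinite.exists_notMem_finset (insert 0 (nthRoots 6 (1 : K)).toFinset)
    simp only [Finset.mem_insert, Multiset.mem_toFinset, mem_nthRoots (show 0 < 6 by norm_num),
      not_or] at hc
    exact ⟨c, hc⟩
  have ev : ∀ {α β}, J α β → Ev (X + c • Y) (α + c * β) := fun ⟨v, h0, e, e'⟩ =>
    ⟨v, h0, by rw [add_mulVec, smul_mulVec, e, e', smul_smul, add_smul]⟩
  have j1 := st hω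
  rw [one_mul] at j1
  have j2 := st j1
  rw [← sq] at j2
  have j3 := st j2
  rw [show ω * ω ^ 2 = 1 by linear_combination o3] at j3
  have j4 := st j3
  rw [mul_one] at j4
  have j5 := st j4
  rw [one_mul] at j5
  have j6 := st j5
  rw [show ω ^ 2 * ω ^ 2 = ω by linear_combination ω * o3] at j6
  have j7 := st j6
  rw [show ω ^ 2 * ω = 1 by linear_combination o3] at j7
  let I : Finset (ℕ × ℕ) := {(0, 1), (1, 1), (1, 2), (2, 0), (0, 2), (2, 2), (2, 1), (1, 0)}
  have d : ∀ i < 3, ∀ j < 3, i = j ∨ (ω ^ i - ω ^ j) ^ 6 = -27 := fun i hi j hj => by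
    interval_cases i <;> interval_cases j <;> first | exact .inl rfl | (right; grind)
  have h27 : (-27 : K) ≠ 0 := fun e => h3 (pow_eq_zero_iff (n := 3) (by norm_num) |>.1 (by
    linear_combination -e))
  have inj : Set.InjOn (fun p : ℕ × ℕ => ω ^ p.1 + c * ω ^ p.2) I := fun p hp p' hp' e => by
    have l : ∀ p ∈ I, p.1 < 3 ∧ p.2 < 3 := by decide
    have e' : (ω ^ p.1 - ω ^ p'.1) ^ 6 = c ^ 6 * (ω ^ p'.2 - ω ^ p.2) ^ 6 := by
      rw [← mul_pow]; congr 1; linear_combination e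
    rcases d _ (l p hp).1 _ (l p' hp').1 with k | k <;>
      rcases d _ (l p' hp').2 _ (l p hp).2 with k' | k'
    · exact Prod.ext k k'.symm
    · rw [k, k', sub_self] at e'
      exact absurd e'.symm (by simp [c0, neg_eq_zero]; exact fun e => h27 (neg_eq_zero.2 e))
    · rw [k, k', sub_self] at e'
      exact absurd (by simpa using e') fun e : (27 : K) = 0 => h27 (neg_eq_zero.2 e)
    · rw [k, k'] at e'
      exact absurd (mul_right_cancel₀ h27 (e'.symm.trans (one_mul _).symm)) c6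
  rw [show 8 = I.card by decide, ← Finset.card_image_of_injOn inj]
  refine card_roots_le (X + c • Y) fun z hz => ?_
  obtain ⟨p, hp, rfl⟩ := Finset.mem_image.1 hz
  simp only [I, Finset.mem_insert, Finset.mem_singleton] at hp
  rcases hp with rfl | rfl | rfl | rfl | rfl | rfl | rfl | rfl <;> simp only [pow_zero, pow_one]
  exacts [ev hω, ev j1, ev j2, ev j3, ev j4, ev j5, ev j6, ev j7]

theorem rep8 (ρ : M →* GL m K) (hi : Function.Injective ρ) (h3 : (3 : K) ≠ 0) :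
    8 ≤ Fintype.card m := by
  obtain ⟨r1, r2, r3, r4, r5, r6⟩ := rel8
  let τ := (up m K).comp ρ
  have v := fun {a b : M} (e : a = b) => congrArg (fun g => (τ g).val) e
  refine eight (X := (τ e1).val) (Y := (τ e2).val) (b := τ b8)
    (by exact_mod_cast cast_ne (p := 3) (by exact_mod_cast h3)) (by simpa using v r1)
    (by simpa using v r2) (by simpa using v r3) (by simpa using v r4) (by simpa using v r5)
    fun e => r6 (hi (up_inj ((Units.ext e : τ e2 = 1).trans (map_one τ).symm)))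

/-- dimension at most `7`: characteristic `3` and dimension at least `3` -/
theorem rep3 (ρ : M →* GL m K) (hi : Function.Injective ρ) (hn : Fintype.card m ≤ 7) :
    (3 : K) = 0 ∧ 3 ≤ Fintype.card m := by
  have h3 : (3 : K) = 0 := by_contra fun e => by have := rep8 ρ hi e; omega
  exact ⟨h3, la3 (x := ρ x13) (a := ρ a13) h3 (fun e => rel13.2.2 (hi (e.trans (map_one ρ).symm)))
    (by rw [← map_inv, ← map_mul, ← map_mul, rel13.1, map_pow])
    (by rw [← map_pow, rel13.2.1, map_one])⟩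

/-- self-dual up to a Frobenius twist: dimension at least `6` -/
theorem rep6 (ρ : M →* GL m K) (hi : Function.Injective ρ) (h3 : (3 : K) = 0) (φ : K →+* K) (k : ℕ)
    (hφ : ∀ t, φ t = t ^ 3 ^ k) (hc : ((ρ x13)⁻¹).val.charpoly = (ρ x13).val.charpoly.map φ) :
    6 ≤ Fintype.card m :=
  la6 (x := ρ x13) (a := ρ a13) h3 (fun e => rel13.2.2 (hi (e.trans (map_one ρ).symm)))
    (by rw [← map_inv, ← map_mul, ← map_mul, rel13.1, map_pow])
    (by rw [← map_pow, rel13.2.1, map_one]) φ k hφ hc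

end

end H94.L3
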