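import Cfsg.Agent.H98.Basic
import Cfsg.Prelude.Def_Local
import Cfsg.Prelude.Def_Classical
import Cfsg.Prelude.Def_LieChev
import Cfsg.Prelude.Def_LieTwisted
import Cfsg.Prelude.Def_ChevAutomorphisms

/-! Interface of the chapter LIST of S3140 (`blueprints/L33L.md`): involutory automorphisms of the
groups of the Gorenstein-Harada list with a normal `L₃(3)` in the centralizer. -/

set_option autoImplicit false

namespace H94.L3

open Subgroup Cfsg Matrix
open scoped MatrixGroups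

universe u

/-- The model of `L₃(3)`. -/
abbrev M : Type := SL(3, ZMod 3)

/-- `A ≅ L₃(3)` is normal in the group of fixed points of `σ`. -/
structure Cf {Y : Type*} [Group Y] (σ : MulAut Y) (A : Subgroup Y) : Prop where
  sq : σ * σ = 1
  ne : σ ≠ 1
  ty : Nonempty (A ≃* M)
  fix : ∀ a ∈ A, σ a = a
  nor : ∀ y, σ y = y → y ∈ normalizer (A : Set Y)
  par : (∀ y, σ ≠ MulAut.conj y) → ∀ c ∈ centralizer (A : Set Y), σ c = c → c * c = 1 → c = 1

/-- The conclusion. -/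
def Out (Y : Type*) [Group Y] : Prop :=
  (∃ (K : Type) (_ : Field K) (_ : Fintype K), Fintype.card K = 9 ∧
    Nonempty (Y ≃* ProjectiveSpecialLinearGroup (Fin 3) K)) ∨
  Nonempty (Y ≃* ProjectiveSpecialLinearGroup (Fin 4) (ZMod 3)) ∨
  Nonempty (Y ≃* ProjectiveSpecialLinearGroup (Fin 5) (ZMod 3))

/-- The chapter. -/
def List3 : Prop := ∀ (Y : Type u) [Group Y] [Finite Y] [IsSimpleGroup Y], ¬ IsMulCommutative Y →
  SectionalPRankLE 2 4 Y → ∀ (σ : MulAut Y) (A : Subgroup Y), Cf σ A → Out Y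

section
variable {Y : Type*} [Group Y]

/-- `σ` fixes a simple group of even order that does not act on `L₃(3)`. -/
def Bg (σ : MulAut Y) : Prop :=
  ∃ (X : Type) (_ : Group X) (_ : Finite X) (ψ : X →* Y), IsSimpleGroup X ∧ Function.Injective ψ ∧
    Even (Nat.card X) ∧ ¬ Nat.card X ∣ 11232 ∧ ∀ x, σ (ψ x) = ψ x

/-- `σ` fixes a central product of two groups `SL₂`. -/
def QS (σ : MulAut Y) : Prop :=
  ∃ (K : Type) (_ : Field K) (_ : Fintype K) (φ ψ : SL(2, K) →* Y), Odd (Fintype.card K) ∧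
    (∀ a b, φ a * ψ b = ψ b * φ a) ∧ φ (-1) = ψ (-1) ∧ ψ (-1) ≠ 1 ∧ (∀ a, σ (φ a) = φ a) ∧
    ∀ a, σ (ψ a) = ψ a

/-- The subgroup generated by the elements of odd order of `C(w)`. -/
def O2 (w : Y) : Subgroup Y := closure {u | u * w = w * u ∧ Odd (orderOf u)}

/-- Up to an inner automorphism `σ` fixes an involution `w` and moves a quaternion subgroup of
`O²(C(w))` into its centralizer. -/
def Sw (σ : MulAut Y) : Prop :=
  ∃ g w i j : Y, w ≠ 1 ∧ w * w = 1 ∧ i * i = w ∧ j * j = w ∧ i * j ≠ j * i ∧ i ∈ O2 w ∧ j ∈ O2 w ∧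
    g * σ w * g⁻¹ = w ∧ Commute (g * σ i * g⁻¹) i ∧ Commute (g * σ i * g⁻¹) j

end

/-- Automorphisms of `G₂(q)`: inner times field, or of graph type. -/
def JobG2G : Prop := ∀ (F : Type) [Field F] [Fintype F], Odd (Fintype.card F) →
  ∀ σ : MulAut ↥(Lie.chevG2.group F),
    (∃ (g : Lie.chevG2.group F) (φ : MulAut ↥(Lie.chevG2.group F)),
      Lie.chevG2.IsFieldAut φ ∧ σ = MulAut.conj g * φ) ∨ Sw σ

/-- Involutions of field type of `G₂(q)` (Lang). -/
def JobG2F : Prop := ∀ (F : Type) [Field F] [Fintype F], Odd (Fintype.card F) →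
  ∀ (σ φ : MulAut ↥(Lie.chevG2.group F)) (g : Lie.chevG2.group F), Lie.chevG2.IsFieldAut φ →
    σ = MulAut.conj g * φ → σ * σ = 1 → (∃ y, σ = MulAut.conj y) ∨ Bg σ

/-- Involutory automorphisms of `³D₄(q)` (Lang). -/
def JobD4 : Prop := ∀ (K : Type) [Field K] [Fintype K] (r : ℕ), Odd r → IsPrimePow r →
  Fintype.card K = r ^ 3 → ∀ σ : MulAut ↥(Lie.twistedD4 K r), σ * σ = 1 →
    (∃ y, σ = MulAut.conj y) ∨ QS σ ∨ Bg σ

/-- Representations of `L₃(3)` outside characteristic `3`. -/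
def JobR : Prop := ∀ (K : Type) [Field K] (ι : Type) [Fintype ι] [DecidableEq ι] (ρ : M →* GL ι K),
  Function.Injective ρ → (3 : K) ≠ 0 → 8 ≤ Fintype.card ι

/-- Eigenvalues of an element of order `13` in characteristic `3`. -/
def JobLA : Prop := ∀ (K : Type) [Field K] (ι : Type) [Fintype ι] [DecidableEq ι] (x a : GL ι K),
  (3 : K) = 0 → a * x * a⁻¹ = x ^ 3 → x ^ 13 = 1 →
    (∀ W : Submodule K (ι → K), (∀ w ∈ W, x.val *ᵥ w ∈ W) → (∀ w ∈ W, a.val *ᵥ w ∈ W) →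
      (∃ w ∈ W, x.val *ᵥ w ≠ w) → 3 ≤ Module.finrank K W) ∧
    ∀ (φ : K →+* K) (k : ℕ), (∀ t, φ t = t ^ 3 ^ k) → x ≠ 1 →
      (x⁻¹).val.charpoly = x.val.charpoly.map φ → 6 ≤ Fintype.card ι

def JobL : Prop := ∀ (F : Type) [Field F] [Fintype F], Odd (Fintype.card F) → ∀ n : ℕ, 2 ≤ n → n ≤ 5 →
  ∀ (σ : MulAut (ProjectiveSpecialLinearGroup (Fin n) F)) A, Cf σ A →
    Out (ProjectiveSpecialLinearGroup (Fin n) F)

/-- No subgroup `L₃(3)`. -/
def Free (Y : Type*) [Group Y] : Prop := ∀ A : Subgroup Y, ¬ Nonempty (A ≃* M)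

def JobU : Prop := ∀ (F : Type) [Field F] [Fintype F] (q : ℕ), Fintype.card F = q ^ 2 →
  ∀ n : ℕ, n ≤ 5 → Free (PSU n F q)

def JobS : Prop := ∀ (F : Type) [Field F] [Fintype F], Free (PSp 2 F)

end H94.L3
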