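import Cfsg.Agent.H94.R3Cop

/-! Tower R3: `jobA3`. -/

set_option autoImplicit false
set_option linter.unusedSectionVars false

namespace H94.R3

open Cfsg Subgroup H98 H86.AG
open H94.GH (foc rc El)
open H1.Gold (cen1)
open H1.GH (conj_iff mem_nor cen_conj cen_conj' mem_adj mem_zp)
open H55.GH (comm_iff cmul cinj)
open H2.GH (mem_cen cen_comm comm_mem)
open scoped commutatorElement

universe u

variable {G : Type u} [Group G]

theorem isConj_cj (g a : G) : IsConj a (g * a * g⁻¹) := isConj_iff.2 ⟨g, rfl⟩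

theorem comm_cj (g : G) {a b : G} : Commute (g * a * g⁻¹) (g * b * g⁻¹) ↔ Commute a b := by
  rw [← br_eq_one, ← br_conj, conj_eq_one_iff, br_eq_one]

theorem zp_cj {σ z x : G} (h : Commute σ z) : σ * x * σ⁻¹ ∈ zpowers z ↔ x ∈ zpowers z :=
  conj_iff (H55.GH.nor_zp h)

namespace Fr

variable {S V U : Subgroup G} {z c ρ s : G} (h : Fr S V U z c ρ s)
include h

theorem mulz {u v : G} (hu : u ∈ U) (hv : v ∈ U) (h1 : u ∉ zpowers z) (h2 : v ∉ zpowers z) :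
    u * v ∈ zpowers z := by
  have k : ∀ u ∈ U, u ∉ zpowers z → u * (ρ * z * ρ⁻¹) ∈ zpowers z := fun u hu n => by
    rcases h.eU' u hu with rfl | rfl | rfl | rfl
    · exact absurd (one_mem _) n
    · exact absurd (mem_zpowers _) n
    · rw [h.vv h.z'V]; exact one_mem _
    · rw [mul_assoc, h.vv h.z'V, mul_one]; exact mem_zpowers _
  have := mul_mem (k u hu h1) (k v hv h2)
  rwa [(h.vc (h.UV hv) h.z'V).eq, mul_assoc, ← mul_assoc (ρ * z * ρ⁻¹), h.vv h.z'V, one_mul] at this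

theorem outz {g u : G} (hg : g ∈ S) (hn : g ∉ cen U) (hu : u ∈ U) (h1 : u ∉ zpowers z) :
    g * u * g⁻¹ = z * u := by
  rcases h.eU' u hu with rfl | rfl | rfl | rfl
  · exact absurd (one_mem _) h1
  · exact absurd (mem_zpowers _) h1
  · exact h.out' g hg hn
  · rw [cmul, h.cz hg, h.out' g hg hn]

theorem fixz {g u : G} (hg : g ∈ S) (hn : g ∉ cen U) (hu : u ∈ U) (e : Commute g u) :
    u ∈ zpowers z := by_contra fun n =>
  h.z1 (mul_eq_right.1 ((h.outz hg hn hu n).symm.trans (comm_iff.1 e)))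

theorem zpc {g ζ : G} (hg : g ∈ S) (hζ : ζ ∈ zpowers z) : Commute g ζ :=
  cen_comm (H55.GH.cen_zp (h.zc hg)) hζ

theorem cenf [Finite G] {f v : G} (hf : f ∈ cen U) (n : ⁅f, c⁆ ≠ 1) (hv : v ∈ V) (e : Commute f v) :
    v ∈ U := by_contra fun m => n ((h.brP hf hv m).symm.trans (br_eq_one.2 e))

end Fr

namespace Par

variable {S R : Subgroup G} {σ r : G} (p : Par S R σ r)
include p

theorem le : R ≤ S := p.ess.elim fun _ e => e.le

theorem sq : Par S R (σ * σ) r :=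
  ⟨p.toSw, p.ess, mul_mem p.nρ p.nρ, p.odd.of_dvd_nat (pow_two σ ▸ orderOf_pow_dvd 2),
    fun e => p.nc (mem_of_sq_odd p.odd e), by
      have := mul_mem p.inv ((conj_iff (H5.GH.nor_le_nor_rc R (inv_mem p.nρ))).2 p.inv)
      rwa [show r * σ * r⁻¹ * σ * (σ⁻¹ * (r * σ * r⁻¹ * σ) * σ⁻¹⁻¹) = r * (σ * σ) * r⁻¹ * (σ * σ) by
        group] at this⟩

theorem tr : ∃ g ∈ S, ∀ x ∈ R, σ * (r * (σ * x * σ⁻¹) * r⁻¹) * σ⁻¹ = g * x * g⁻¹ := by
  obtain ⟨a, ha, k, hk, e⟩ := H68.GH2.mem_rc.1 ((conj_iff (H5.GH.nor_le_nor_rc R p.nρ)).2 p.inv)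
  refine ⟨a * r, mul_mem (p.le ha) p.sS, fun x hx => ?_⟩
  calc _ = σ * (r * σ * r⁻¹ * σ) * σ⁻¹ * (r * x * r⁻¹) * (σ * (r * σ * r⁻¹ * σ) * σ⁻¹)⁻¹ := by group
    _ = a * (k * (r * x * r⁻¹) * k⁻¹) * a⁻¹ := by rw [e]; group
    _ = _ := by rw [cen_conj hk ((conj_iff p.sn).2 hx)]; group

end Par

variable [Finite G] {S V U X B R : Subgroup G} {z c ρ s σ r f t i : G}

namespace XF

variable (h : XF S V U X B z c ρ s)
include h

theorem XT : X ≤ S ⊓ cen V := fun x hx => ((h.mem x).1 hx).1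

theorem xc {x y : G} (hx : x ∈ X) (hy : y ∈ X) : Commute x y := cen_comm (h.comm hx) hy

theorem xv {x v : G} (hx : x ∈ X) (hv : v ∈ V) : Commute x v := h.xc hx (h.VX hv)

theorem brX {p x : G} (hp : p ∈ S ⊓ cen U) (hx : x ∈ X) : ⁅p, x⁆ ∈ V := ((h.mem x).1 hx).2.2 p hp

theorem sqm {x y : G} (hx : x ∈ X) (hy : y ∈ X) : x * y * (x * y) = x * x * (y * y) :=
  (h.xc hy hx).mul_mul_mul_comm x y

theorem divV {x y : G} (hx : x ∈ X) (hy : y ∈ X) (e : x * x = y * y) : x * y⁻¹ ∈ V :=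
  h.om _ (h.XT (mul_mem hx (inv_mem hy))) (by
    rw [h.sqm hx (inv_mem hy), e, ← mul_inv_rev, mul_inv_cancel])

theorem jt (rX : r ∈ X) (r1 : r * r ∉ zpowers z) (tS : t ∈ S) (tP : t ∉ cen U) :
    ⁅r, t⁆ ∈ X ∧ ⁅r, t⁆ * ⁅r, t⁆ = z := by
  have m := (conj_iff (h.nX tS)).2 (inv_mem rX)
  have e : ⁅r, t⁆ = r * (t * r⁻¹ * t⁻¹) := by rw [commutatorElement_def]; group
  have u := h.sq r rX
  refine ⟨e ▸ mul_mem rX m, ?_⟩
  rw [e, h.sqm rX m, ← cmul, ← mul_inv_rev, h.toFr.vi (h.UV u), h.toFr.outz tS tP u r1,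
    ← mul_assoc, (h.toFr.vc (h.UV u) h.toFr.zV).eq, mul_assoc, h.toFr.vv (h.UV u), mul_one]

end XF

namespace TE

variable (h : XF S V U X B z c ρ s) (e : TE S V U X z c σ f t)
include h e

theorem sq {v : G} (hv : v ∈ cj σ V) : v * v = 1 := H55.GH.El.sq (H55.GH.El.cj h.nv.el σ) hv

theorem cm {v w : G} (hv : v ∈ cj σ V) (hw : w ∈ cj σ V) : Commute v w :=
  H55.GH.El.comm (H55.GH.El.cj h.nv.el σ) hv hw

theorem fc1 : ⁅f, c⁆ ≠ 1 := e.fc ▸ h.z1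

theorem brV {a v : G} (ha : a ∈ cj σ V) (hv : v ∈ V) : ⁅a, v⁆ ∈ zpowers z :=
  e.x1 v (h.VX hv) (h.toFr.vv hv ▸ one_mem _) a ha

theorem cenz {v : G} (hv : v ∈ V) (k : v ∈ cen (cj σ V)) : v ∈ zpowers z :=
  h.toFr.fixz (e.le e.tV) e.tP (h.toFr.cenf e.fP (e.fc1 h) hv (cen_comm k e.fV).symm)
    (cen_comm k e.tV).symm

theorem exi : ∃ i ∈ X, i * i = z ∧ i ∈ cen (cj σ V) := by
  have F := h.toFr
  have st : ∀ a ∈ cj σ V, ∀ v ∈ V, ⁅a, v⁆ = z → ∀ x ∈ X, x * x = z →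
      Commute a x ∨ (x * v ∈ X ∧ x * v * (x * v) = z ∧ Commute a (x * v)) := fun a ha v hv k x hx xx =>
    (F.mz.1 (e.x1 x hx (xx ▸ mem_zpowers z) a ha)).imp br_eq_one.1 fun l =>
      ⟨mul_mem hx (h.VX hv), by rw [h.sqm hx (h.VX hv), xx, F.vv hv, mul_one],
        br_eq_one.1 (by rw [br_mul_right, l, k, F.cz (h.XT hx).1, F.zz])⟩
  obtain ⟨x, hx, xx, k⟩ : ∃ x ∈ X, x * x = z ∧ Commute f x := by
    obtain ⟨x, hx, xx⟩ := h.sur z h.zU
    exact (st f e.fV c h.cV e.fc x (h.BX hx) xx).elim (fun k => ⟨x, h.BX hx, xx, k⟩)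
      fun k => ⟨_, k.1, k.2⟩
  obtain ⟨x, hx, xx, k, l⟩ : ∃ x ∈ X, x * x = z ∧ Commute f x ∧ Commute t x :=
    (st t e.tV _ F.z'V (by rw [commutatorElement_def, h.out t (e.le e.tV) e.tP, mul_inv_cancel_right])
      x hx xx).elim (fun l => ⟨x, hx, xx, k, l⟩)
      fun l => ⟨_, l.1, l.2.1, k.mul_right (cen_comm e.fP F.z'U), l.2.2⟩
  refine ⟨x, hx, xx, le_centralizer_iff.1 ?_ (mem_zpowers x)⟩
  rw [e.gen, closure_le]
  rintro _ (rfl | rfl | rfl)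
  exacts [H55.GH.cen_zp (h.xv hx F.zV).symm, H55.GH.cen_zp k, H55.GH.cen_zp l]

/-- Two elements of `T` with square `z` which centralize `V ^ σ` and each other. -/
theorem fix (ho : Odd (orderOf σ)) {y : G} (hy : y ∈ S ⊓ cen V) (yy : y * y = z)
    (y1 : y ∈ cen (cj σ V)) (hy' : σ * y * σ⁻¹ ∈ S ⊓ cen V) (y2 : σ * y * σ⁻¹ ∈ cen (cj σ V))
    (k : Commute y (σ * y * σ⁻¹)) : Commute σ y := by
  have F := h.toFr
  have m := e.cenz h (h.om _ (mul_mem hy hy') (by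
    rw [k.symm.mul_mul_mul_comm, ← cmul, yy, comm_iff.1 e.σz, F.zz])) (mul_mem y1 y2)
  rcases F.mz.1 m with l | l
  · refine comm_of_sq_odd ho (comm_iff.2 ?_)
    have := eq_inv_of_mul_eq_one_right l
    rw [show σ * σ * y * (σ * σ)⁻¹ = σ * (σ * y * σ⁻¹) * σ⁻¹ by group, this, ← conj_inv, this, inv_inv]
  · exact comm_iff.2 (mul_left_cancel (l.trans yy.symm))

variable {σ₀ : G} (m : MV S V U X R z c σ₀ r) (p : Par S R σ r) (mv : σ ∉ nor U)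
include m p mv

theorem trV {a : G} (ha : a ∈ cj σ V) : σ * (r * a * r⁻¹) * σ⁻¹ ∈ V := by
  obtain ⟨g, hg, k⟩ := p.tr
  obtain ⟨v, hv, rfl⟩ := ha
  exact (k v (p.ess.elim (fun M k => h.ess V R M h.nv k) hv)).symm ▸ (conj_iff (h.nv.nor hg)).2 hv

theorem hu : ⁅r, f⁆ ∈ U ∧ ⁅r, f⁆ ∉ zpowers z := by
  have F := h.toFr
  have uV : ⁅r, f⁆ ∈ V := br_swap (h.brX ⟨e.le e.fV, e.fP⟩ m.rX)
  refine ⟨F.cenf e.fP (e.fc1 h) uV ?_, fun k => ?_⟩
  · have : ⁅r, f⁆ * f * (⁅r, f⁆ * f) = 1 := by rw [← conj_eq_br, ← cmul, e.sq h e.fV]; simp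
    rw [mul_assoc, ← mul_assoc f] at this
    rw [comm_iff, inv_of_sq (e.sq h e.fV), eq_inv_of_mul_eq_one_right this, F.vi uV]
  · obtain ⟨f', t', e'⟩ := m.te _ p.sq fun k => mv (mem_of_sq_odd p.odd k)
    have a : r * f * r⁻¹ ∈ cj σ V := conj_eq_br r f ▸ mul_mem ((e.inf.ge k).2) e.fV
    have := e'.inf.le ⟨e.trV h m p mv e.fV, cj_cj σ σ V ▸ conj_mem_cj a⟩
    rw [zp_cj e.σz, zp_cj (F.zc m.par.sS)] at this
    exact e.fc1 h (br_eq_one.2 (F.vc (F.UV (F.zpU this)) h.cV))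

theorem cenr {y : G} (hy : y ∈ X) :
    y ∈ cen (cj σ V) ↔ σ * y * σ⁻¹ ∈ cen V := by
  obtain ⟨g, hg, k⟩ := p.tr
  have VR : V ≤ R := p.ess.elim fun M k => h.ess V R M h.nv k
  have l : ∀ v ∈ V, Commute y (σ * v * σ⁻¹) ↔ Commute (σ * y * σ⁻¹) (g * v * g⁻¹) := fun v hv => by
    rw [← k v (VR hv), comm_cj, ← comm_cj r, comm_iff.1 (h.xc m.rX hy)]
  refine ⟨fun a => mem_cen fun v hv => ?_, fun a => mem_cen ?_⟩
  · have := (l _ ((conj_iff (h.nv.nor (inv_mem hg))).2 hv)).1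
      (cen_comm a (conj_mem_cj ((conj_iff (h.nv.nor (inv_mem hg))).2 hv)))
    rwa [show g * (g⁻¹ * v * g⁻¹⁻¹) * g⁻¹ = v by group] at this
  · rintro _ ⟨v, hv, rfl⟩
    exact (l v hv).2 (cen_comm a ((conj_iff (h.nv.nor hg)).2 hv))

end TE

theorem cen_cj_mem {A : Subgroup G} {g y : G} (h : y ∈ cen A) : g * y * g⁻¹ ∈ cen (cj g A) := by
  rw [cen, ← cj_centralizer]; exact conj_mem_cj h

theorem MV.mover (h : XF S V U X B z c ρ s) (m : MV S V U X R z c σ r) :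
    ∃ σ f t i, Par S R σ r ∧ σ ∉ nor U ∧ TE S V U X z c σ f t ∧ i ∈ X ∧ i * i = z ∧
      i ∈ cen (cj σ V) ∧ Commute σ i := by
  have F := h.toFr
  have p := m.par
  obtain ⟨f, t, e⟩ := m.te σ p m.mv
  obtain ⟨i, iX, ii, iV⟩ := e.exi h
  have iR := m.x1R i iX (ii ▸ mem_zpowers z)
  have T2 : σ * i * σ⁻¹ ∈ S ⊓ cen V :=
    ⟨p.le ((conj_iff p.nρ).2 iR), (e.cenr h m p m.mv iX).1 iV⟩
  have V2 := cen_cj_mem (g := σ) (h.XT iX).2
  by_cases k : Commute i (σ * i * σ⁻¹)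
  · exact ⟨σ, f, t, i, p, m.mv, e, iX, ii, iV, e.fix h p.odd (h.XT iX) ii iV T2 V2 k⟩
  set i₂ := σ * i * σ⁻¹ with hi
  have k1 : ⁅i, i₂⁆ = z := (F.mz.1 (e.inf.le ⟨br_swap (h.brX (F.TP T2) iX), by
    have a : σ⁻¹ * i * σ⁻¹⁻¹ ∈ S ⊓ cen V := ⟨p.le ((conj_iff (inv_mem p.nρ)).2 iR), by
      have := cen_cj_mem (g := σ⁻¹) iV
      rwa [cj_cj, inv_mul_cancel, cj_one] at this⟩
    have := conj_mem_cj (g := σ) (h.brX (F.TP a) iX)
    rwa [br_conj, show σ * (σ⁻¹ * i * σ⁻¹⁻¹) * σ⁻¹ = i by group] at this⟩)).resolve_left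
      (mt br_eq_one.1 k)
  obtain ⟨uU, u1⟩ := e.hu h m p m.mv
  obtain ⟨jX, jj⟩ := h.jt m.rX m.r1 (e.le e.tV) e.tP
  have vV : ⁅r, i₂⁆ ∈ V := br_swap (h.brX (F.TP T2) m.rX)
  have cr : ∀ a ∈ cj σ V, Commute (⁅r, a⁆ * a) (⁅r, i₂⁆ * i₂) := fun a ha => by
    rw [← conj_eq_br, ← conj_eq_br, comm_cj]; exact (cen_comm V2 ha).symm
  have vU : ⁅r, i₂⁆ ∈ U := F.cenf e.fP (e.fc1 h) vV (by
    have a := ((F.vc (F.UV uU) vV).mul_right (cen_comm T2.2 (F.UV uU)).symm).inv_left.mul_left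
      (cr f e.fV)
    rw [inv_mul_cancel_left] at a
    simpa using a.mul_right (cen_comm V2 e.fV).symm.inv_right)
  have v1 : ⁅r, i₂⁆ ∉ zpowers z := fun l => F.z1 (by
    have a := (cr t e.tV).mul_right (F.zpc (mul_mem (h.XT jX).1 (e.le e.tV)) l).inv_right
    rw [(cen_comm T2.2 vV).symm.eq, mul_inv_cancel_right] at a
    have b := a.mul_left (cen_comm V2 e.tV).symm.inv_left
    rw [mul_inv_cancel_right] at b
    have d := ((cen_comm T2.2 (h.divV jX iX (jj.trans ii.symm))).symm.inv_left).mul_left b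
    rw [mul_inv_rev, inv_inv, mul_assoc, inv_mul_cancel, mul_one] at d
    rw [← k1, br_eq_one.2 d])
  obtain ⟨v, hv, rfl⟩ := e.fV
  replace hv : v ∈ V := hv
  have yX : v * i ∈ X := mul_mem (h.VX hv) iX
  have yy : v * i * (v * i) = z := by rw [h.sqm (h.VX hv) iX, F.vv hv, ii, one_mul]
  obtain ⟨g, hg, l⟩ := p.tr
  have l1 := l _ (m.x1R _ yX (yy ▸ mem_zpowers z))
  have ζ := F.mulz uU vU u1 v1
  have y2 : σ * σ * (v * i) * (σ * σ)⁻¹ ∈ X := by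
    have a : r * (σ * (v * i) * σ⁻¹) * r⁻¹ =
        ⁅r, σ * v * σ⁻¹⁆ * ⁅r, i₂⁆ * (σ * (v * i) * σ⁻¹) := by
      have b := (cen_comm (g := σ * v * σ⁻¹) e.fP vU).eq
      rw [cmul σ, cmul r, conj_eq_br r, conj_eq_br r, ← hi]
      generalize σ * v * σ⁻¹ = a at b ⊢
      rw [mul_assoc, ← mul_assoc a, b]
      simp only [mul_assoc]
    rw [a, cmul σ] at l1
    have := mul_mem (inv_mem (h.VX (F.UV (F.zpU ((zp_cj e.σz).2 ζ)))))
      (l1 ▸ (conj_iff (h.nX hg)).2 yX)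
    rwa [show (MulAut.conj σ).toMonoidHom v = σ * v * σ⁻¹ from rfl, inv_mul_cancel_left,
      show σ * (σ * (v * i) * σ⁻¹) * σ⁻¹ = σ * σ * (v * i) * (σ * σ)⁻¹ by group] at this
  have mv : σ * σ ∉ nor U := fun k => m.mv (mem_of_sq_odd p.odd k)
  obtain ⟨f', t', e'⟩ := m.te _ p.sq mv
  have y1 := (e'.cenr h m p.sq mv yX).2 (h.XT y2).2
  exact ⟨_, f', t', _, p.sq, mv, e', yX, yy, y1, e'.fix h p.sq.odd (h.XT yX) yy y1 (h.XT y2)
    (cen_cj_mem (h.XT yX).2) (h.xc yX y2)⟩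

theorem jobA3 : JobA3.{u} := by
  intro G _ _ S V U X B R z c ρ s σ₀ r h cz ng m
  have F := h.toFr
  obtain ⟨σ, f, t, i, p, mv, e, iX, ii, iV, σi⟩ := m.mover h
  obtain ⟨uU, u1⟩ := e.hu h m p mv
  have fS := e.le e.fV
  have ff := e.sq h e.fV
  have fU : f ∉ U := fun k => e.fc1 h (br_eq_one.2 (F.vc (F.UV k) h.cV))
  have cl : ∀ a ∈ cj σ V, a ∉ cj σ U → IsConj a c := by
    rintro _ ⟨v, hv, rfl⟩ n
    exact (isConj_cj σ v).symm.trans (h.ccls v hv fun k => n (conj_mem_cj k))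
  set u := ⁅r, f⁆ with hu
  have v0 : σ * (u * f) * σ⁻¹ ∈ V := conj_eq_br r f ▸ e.trV h m p mv e.fV
  have v1 : σ * (u * f) * σ⁻¹ ∉ zpowers z := fun k =>
    fU ((mul_mem_cancel_left uU).1 (F.zpU ((zp_cj e.σz).1 k)))
  have ufP : u * f ∈ cen U := mul_mem (F.cVU (F.Vc (F.UV uU))) e.fP
  have U1 : ∀ a ∈ cj σ U, a ∉ zpowers z → a * (σ * u * σ⁻¹) ∈ zpowers z := by
    rintro _ ⟨a, ha, rfl⟩ n
    exact cmul σ a u ▸ (zp_cj e.σz).2 (F.mulz ha uU (mt (zp_cj e.σz).2 n) u1)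
  have zP : zpowers z ≤ cen U := F.zpU.trans (F.UV.trans (F.Vc.trans F.cVU))
  have eV : σ * u * σ⁻¹ ∈ cj σ V := conj_mem_cj (F.UV uU)
  have eP : σ * u * σ⁻¹ ∈ cen U := by
    by_contra n
    have k : Commute (σ * u * σ⁻¹) (σ * (u * f) * σ⁻¹) := (comm_cj σ).2 (cen_comm ufP uU).symm
    refine ng _ ⟨e.le eV, n, e.sq h eV, _, v0, fun l => v1 (F.fixz (e.le eV) n l k), k, fun l => cz ?_⟩
    rw [← cmul, ← mul_assoc u, F.vv (F.UV uU), one_mul] at l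
    exact (cl f e.fV fun a => n ((mul_mem_cancel_left e.fP).1
      (zP (U1 f a fun b => fU (F.zpU b))))).symm.trans (((isConj_cj σ f).trans l.symm).trans
        ((isConj_cj σ u).symm.trans (h.zcls u uU fun a => u1 (a ▸ one_mem _))))
  have ef : f * (σ * u * σ⁻¹) ∈ zpowers z := by
    have T : ∀ a ∈ cj σ V, a ∈ cen U → ⁅a, c⁆ = 1 → a ∈ zpowers z := fun a ha k l => e.inf.le
      ⟨h.om a ⟨e.le ha, (h.memT a ⟨e.le ha, k⟩).2 l⟩ (e.sq h ha), ha⟩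
    refine T _ (mul_mem e.fV eV) (mul_mem e.fP eP) ?_
    rw [h.hom _ ⟨fS, e.fP⟩ _ ⟨e.le eV, eP⟩, e.fc, (F.mz.1 (e.brV h eV h.cV)).resolve_left fun l =>
      u1 ((zp_cj e.σz).1 (T _ eV eP l)), F.zz]
  have E : ∀ a ∈ cj σ U, a ∉ zpowers z → ∃ ζ ∈ zpowers z, a = f * ζ := fun a ha n => by
    refine ⟨_, mul_mem ef (inv_mem (U1 a ha n)), ?_⟩
    rw [mul_inv_rev, mul_assoc f, mul_inv_cancel_left, ← mul_assoc, ff, one_mul,
      inv_of_sq (e.sq h (H98.cj_mono σ F.UV ha))]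
  have U1P : cj σ U ≤ cen U := fun a ha => by
    by_cases n : a ∈ zpowers z
    · exact zP n
    · obtain ⟨ζ, k, rfl⟩ := E a ha n
      exact mul_mem e.fP (zP k)
  have zU : zpowers z ≤ cj σ U := zpowers_le.2 (comm_iff.1 e.σz ▸ conj_mem_cj h.zU)
  have fU1 : f ∈ cj σ U := (mul_mem_cancel_right (conj_mem_cj uU)).1 (zU ef)
  have v0U : σ * (u * f) * σ⁻¹ ∈ U := F.cenf e.fP (e.fc1 h) v0 (cen_comm (cen_cj_mem ufP) fU1).symm
  have fi : Commute f i := (cen_comm iV e.fV).symm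
  have yz : ∀ w ∈ V, ∀ ζ ∈ zpowers z, IsConj (i * f * w * ζ) (i * f * w) := fun w hw ζ k => by
    rcases F.mz.1 k with rfl | rfl
    · rw [mul_one]
    · refine (isConj_iff.2 ⟨c, ?_⟩).symm
      rw [cmul, cmul, comm_iff.1 (h.xv iX h.cV).symm, comm_iff.1 (F.vc h.cV hw), conj_eq_br,
        ← commutatorElement_inv, e.fc, F.vi F.zV, ← (F.zc fS).eq, mul_assoc i, mul_assoc f,
        (F.vc F.zV hw).eq]
      group
  have key : ∀ t ∈ cj σ V, t ∉ cen U → σ * (r * t * r⁻¹) * σ⁻¹ ∉ U ∧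
      IsConj (i * f * (σ * (r * t * r⁻¹) * σ⁻¹)) c := fun t tV tP => by
    have tS := e.le tV
    have tt := e.sq h tV
    obtain ⟨jX, jj⟩ := h.jt m.rX m.r1 tS tP
    have wV := e.trV h m p mv tV
    rw [conj_eq_br r t] at wV ⊢
    have ft : Commute (⁅r, t⁆ * t) (u * f) := by
      rw [← conj_eq_br, hu, ← conj_eq_br, comm_cj]; exact e.cm h tV e.fV
    have tj : t * ⁅r, t⁆ * t⁻¹ = ⁅r, t⁆⁻¹ := by
      simp only [commutatorElement_def, inv_of_sq tt, mul_inv_rev, inv_inv, mul_assoc, tt, mul_one]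
    set j := ⁅r, t⁆
    have jP : j ∈ cen U := F.cVU (h.XT jX).2
    obtain ⟨v, hv, vU, tv⟩ : ∃ v ∈ V, v ∉ U ∧ Commute t v := by
      rcases F.mz.1 (e.brV h tV h.cV) with k | k
      · exact ⟨c, h.cV, h.cU, br_eq_one.1 k⟩
      · refine ⟨_, mul_mem h.cV F.z'V, mt (mul_mem_cancel_right F.z'U).1 h.cU, comm_iff.2 ?_⟩
        rw [cmul, h.out t tS tP, conj_eq_br, k, (F.vc F.zV h.cV).eq, mul_assoc, ← mul_assoc z, F.zz,
          one_mul]
    have a1 : IsConj (t * v) c := (not_not.1 fun k => ng t ⟨tS, tP, tt, v, hv, vU, tv, k⟩).symm.trans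
      (cl t tV fun k => tP (U1P k))
    have w0 := h.divV jX iX (jj.trans ii.symm)
    have w1 : j * i⁻¹ ∉ U := fun k => F.z1 (by
      have a : Commute f j := by simpa using (cen_comm e.fP k).mul_right fi
      have b := (ft.mul_right (a.symm.mul_left (e.cm h tV e.fV)).inv_right)
      rw [mul_inv_cancel_right] at b
      have d := (cen_comm jP uU).inv_left.mul_left b
      rw [inv_mul_cancel_left] at d
      exact mul_eq_right.1 ((F.outz tS tP uU u1).symm.trans (comm_iff.1 d)))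
    have w2 : j * i⁻¹ * v ∉ zpowers z := fun k => F.z1 (by
      have a := ((F.zpc tS k).mul_right tv.inv_right).mul_right (cen_comm iV tV).symm
      rw [mul_inv_cancel_right, inv_mul_cancel_right, comm_iff, tj] at a
      rw [← jj]; nth_rw 1 [← a]; rw [inv_mul_cancel])
    obtain ⟨ζ, hζ, k⟩ := E _ (conj_mem_cj (F.mulU w0 hv w1 vU)) (mt (zp_cj e.σz).1 w2)
    refine ⟨fun l => tP ((mul_mem_cancel_left jP).1 (mem_cen fun a ha => (comm_cj σ).1 ?_)), ?_⟩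
    · by_cases n : σ * a * σ⁻¹ ∈ zpowers z
      · exact F.zpc (F.VS wV) n
      · obtain ⟨ζ, hζ, k⟩ := E _ (conj_mem_cj ha) n
        exact k ▸ (cen_comm e.fP l).symm.mul_right (F.zpc (F.VS wV) hζ)
    refine (yz _ wV _ (mul_mem (mem_zpowers z) hζ)).symm.trans (((isConj_iff.2 ⟨σ, ?_⟩).symm).trans a1)
    have a : t * v = i⁻¹ * (j * i⁻¹ * v) * (j * t) := by
      have b : j⁻¹ = i⁻¹ * (j * i⁻¹) := by
        rw [← F.vi w0, mul_inv_rev, inv_inv, inv_mul_cancel_left]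
      rw [← mul_assoc i⁻¹, ← b, mul_assoc, ← ((h.xv jX hv).mul_left tv).eq]; group
    rw [a, cmul, cmul, k, ← conj_inv, comm_iff.1 σi, show i⁻¹ = i * z by
      rw [← ii, inv_eq_iff_mul_eq_one, ← mul_assoc, ii, F.zz], ← mul_assoc _ _ ζ, mul_assoc _ ζ,
      ← (F.zpc (F.VS wV) hζ).eq, mul_assoc i z, ← (F.zc fS).eq, ← mul_assoc i, mul_assoc (i * f),
      ← mul_assoc z, ← (F.zc (F.VS wV)).eq]
    group
  refine ⟨f, t, σ, ⟨fS, e.fP⟩, ff, e.fc, e.le e.tV, e.tP, e.sq h e.tV, e.cm h e.fV e.tV,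
    zU (mem_zpowers z), fU1, fun x hx k => e.x1 x hx k f e.fV, fun x hx k l => u1 (br_swap ?_),
    fun x hx xx k => ?_⟩
  · have a := e.x1 _ (mul_mem hx m.rX) (h.sqm hx m.rX ▸ F.mulz (h.sq x hx) (h.sq r m.rX) k m.r1) f e.fV
    rwa [br_mul_right, mul_mem_cancel_left l, zp_cj (F.zc (h.XT hx).1)] at a
  have w0 := h.divV hx iX (xx.trans ii.symm)
  have w1 : x * i⁻¹ ∉ U := fun l => F.z1 (by
    rw [← k, br_eq_one]; simpa using (cen_comm e.fP l).mul_right fi)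
  have fx : f * x = i * f * (x * i⁻¹) := by
    rw [← fi.eq, mul_assoc, ← mul_assoc i, comm_iff.1 (h.xc iX hx)]
  have fin : ∀ w ∈ V, IsConj (i * f * w) c → w * (x * i⁻¹) ∈ zpowers z → IsConj (f * x) c :=
    fun w hw a b => by
      refine IsConj.trans ?_ ((yz w hw _ b).trans a)
      rw [fx, mul_assoc _ w, ← mul_assoc w, F.vv hw, one_mul]
  obtain ⟨a1, a2⟩ := key t e.tV e.tP
  have wV := e.trV h m p mv e.tV
  by_cases n : σ * (r * t * r⁻¹) * σ⁻¹ * (x * i⁻¹) ∈ zpowers z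
  · exact fin _ wV a2 n
  refine fin _ (e.trV h m p mv (mul_mem e.fV e.tV))
    (key _ (mul_mem e.fV e.tV) (mt (mul_mem_cancel_left e.fP).1 e.tP)).2 ?_
  rw [cmul r, cmul σ, conj_eq_br r f, mul_assoc]
  exact F.mulz v0U (F.mulU wV w0 a1 w1) v1 n

end H94.R3
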