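import Cfsg.Agent.H78.TEDef

/-! STD-2E6: small lemmas on `X = ²E₆(q)` used by several slots. -/

set_option autoImplicit false
set_option linter.unusedSectionVars false

namespace H94.TE

open Cfsg.Lie H63 H65 H64 H64.SG H68 H46.SF Subgroup H78.TE

/-- A `2`-subgroup normalised by a Sylow `2`-subgroup lies in it. -/
theorem le_syl {G : Type*} [Group G] [Finite G] {P A D : Subgroup G} (hP : Syl P A) (hD : D ≤ A)
    (h2 : IsPGroup 2 D) (hn : P ≤ Ns D) : D ≤ P := by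
  have h1 : IsPGroup 2 (P ⊔ D : Subgroup G) := hP.2.1.to_sup_of_normal_right' h2 hn
  have h3 : P.relIndex (P ⊔ D) ∣ P.relIndex A :=
    Dvd.intro _ (relIndex_mul_relIndex P (P ⊔ D) A le_sup_left (sup_le hP.1 hD))
  obtain ⟨k, hk⟩ := h1.index (P.subgroupOf (P ⊔ D))
  rcases k with _ | k
  · exact le_sup_right.trans (relIndex_eq_one.1 hk)
  · exact absurd hP.2.2 (Nat.not_odd_iff_even.2 (even_iff_two_dvd.2
      (((dvd_pow_self 2 k.succ_ne_zero).trans hk.symm.dvd).trans h3)))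

variable {F K : Type} [Field F] [Field K] [CharP K 2] {T : Qd F K}

theorem mem_P0 {r : Rt D4} {g : T.X} : g ∈ T.P0 r ↔ ∀ c, T.x r c * g = g * T.x r c := by
  rw [Qd.P0, XR, Cs, centralizer_closure]
  exact ⟨fun h c => h _ ⟨c, rfl⟩, by rintro h _ ⟨c, rfl⟩; exact h c⟩

theorem mem_Cs_gt {S : Set (Rt E6)} {g : T.X} :
    g ∈ Cs (T.gt S) ↔ ∀ r ∈ S, ∀ u, T.xs r u * g = g * T.xs r u := by
  rw [Qd.gt, Cs, centralizer_closure]
  exact ⟨fun h r hr u => h _ ⟨r, hr, u, rfl⟩, by rintro h _ ⟨r, hr, u, rfl⟩; exact h r hr u⟩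

theorem xs_P0 (hK : T.KB) {r : Rt D4} {s : Rt E6} (h : 0 ≤ ip (lr r) s) (u : K) :
    T.xs s u ∈ T.P0 r := mem_P0.2 fun c => hK.cx r s h c u

theorem x_P0 (hK : T.KB) {r s : Rt D4} (h : 0 ≤ D4.pairing r s) (c : F) : T.x s c ∈ T.P0 r :=
  mem_P0.2 fun a => e4.comm_of_nonneg hK.st h a c

theorem lf_P0 {n : T.X} {w : W6} (h : T.Lf n w) {r s : Rt D4} (e : w.1 (lr r) = lr s) {g : T.X} :
    n * g * n⁻¹ ∈ T.P0 s ↔ g ∈ T.P0 r := by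
  rw [mem_P0, mem_P0]
  refine forall_congr' fun c => ?_
  rw [← Qd.Lf.x T h e, conj_mul, conj_mul, mul_left_inj, mul_right_inj]

theorem xs_long {r : Rt E6} (h : gm r = r) (u : K) : ∃ v c, lr v = r ∧ T.xs r u = T.x v c := by
  obtain ⟨v, rfl⟩ := exists_lr r h
  obtain ⟨c, hc⟩ := T.exists_tr u
  exact ⟨v, c, rfl, T.xs_lr v hc⟩

theorem xs_lr' (v : Rt D4) (u : K) : ∃ c, T.xs (lr v) u = T.x v c :=
  (T.exists_tr u).imp fun _ hc => T.xs_lr v hc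

theorem gY_empty : gY K (∅ : Set (Rt E6)) = ⊥ := by simp [gY, gen]

/-- The certificate lemma in `X`. -/
theorem ctX (hK : T.KB) (hC : T.CT) {S S' V P : Set (Rt E6)} (h1 : Cl S) (h2 : Cl S') (hV : Cl V)
    (h3 : ∀ r ∈ S', r ∈ S) (h4 : ∀ r ∈ P, 36 ≤ r.1)
    (h7 : ∀ r ∈ V, ∀ s, 36 ≤ s.1 → ip r s = -1 → su r s ∈ V)
    (h5 : ∀ r ∈ S', ∀ s ∈ P, (ip r s = -1 → su r s ∈ V) ∧ (ip r (gm s) = -1 → su r (gm s) ∈ V))
    (h6 : ∀ r ∈ S, r ∉ S' → ∃ s ∈ P, ip r s = -1 ∧ su r s ∉ V) {g : T.X} (hg : g ∈ T.gt S)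
    (hc : ∀ s ∈ P, ∀ a, g * T.xs s a * g⁻¹ * (T.xs s a)⁻¹ ∈ T.gt V) : g ∈ T.gt S' :=
  (hK.gtY _ h2 g).2 (hC S S' V P h1.1 h2.1 h3 h4 (fun r hr => ⟨hV.1.1 r hr, h7 r hr⟩) h5 h6 g
    ((hK.gtY _ h1 g).1 hg) fun s hs a => (hK.gtY _ hV _).1 (hc s hs a))

/-- The certificate lemma for commuting elements of `Y`. -/
theorem ctY0 (hC : T.CT) {S S' P : Set (Rt E6)} (h1 : Cl0 S) (h2 : Cl0 S')
    (h3 : ∀ r ∈ S', r ∈ S) (h4 : ∀ r ∈ P, 36 ≤ r.1)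
    (h5 : ∀ r ∈ S', ∀ s ∈ P, ip r s ≠ -1 ∧ ip r (gm s) ≠ -1)
    (h6 : ∀ r ∈ S, r ∉ S' → ∃ s ∈ P, ip r s = -1) {g : YY K} (hg : g ∈ gY K S)
    (hc : ∀ s ∈ P, ∀ a, g * T.xs s a = T.xs s a * g) : g ∈ gY K S' :=
  hC S S' ∅ P h1 h2 h3 h4 (fun _ h => h.elim)
    (fun r hr s hs => ⟨(h5 r hr s hs).1, (h5 r hr s hs).2⟩)
    (fun r hr hr' => (h6 r hr hr').imp fun _ h => ⟨h.1, h.2, id⟩) g hg fun s hs a => by
      rw [gY_empty, mem_bot, hc s hs a]; group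

/-- The certificate lemma for commuting elements of `X`. -/
theorem ctX0 (hK : T.KB) (hC : T.CT) {S S' P : Set (Rt E6)} (h1 : Cl S) (h2 : Cl S')
    (h3 : ∀ r ∈ S', r ∈ S) (h4 : ∀ r ∈ P, 36 ≤ r.1)
    (h5 : ∀ r ∈ S', ∀ s ∈ P, ip r s ≠ -1 ∧ ip r (gm s) ≠ -1)
    (h6 : ∀ r ∈ S, r ∉ S' → ∃ s ∈ P, ip r s = -1) {g : T.X} (hg : g ∈ T.gt S)
    (hc : ∀ s ∈ P, ∀ a, g * T.xs s a = T.xs s a * g) : g ∈ T.gt S' :=
  (hK.gtY _ h2 g).2 (ctY0 hC h1.1 h2.1 h3 h4 h5 h6 ((hK.gtY _ h1 g).1 hg) fun s hs a =>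
    congrArg Subtype.val (hc s hs a))

theorem clU : Cl SU := by decide +kernel
theorem clR : Cl SR := by decide +kernel
theorem clQ : Cl SQ := by decide +kernel
theorem clA : Cl SA := by decide +kernel
theorem clW : Cl SW := by decide +kernel
theorem clE : Cl SE := by decide +kernel
theorem clZ : Cl SZ := by decide +kernel

theorem lf_gt {n : T.X} {w : W6} (h : T.Lf n w) {S S' : Set (Rt E6)} (e : ∀ r ∈ S, w.1 r ∈ S')
    {g : T.X} (hg : g ∈ T.gt S) : n * g * n⁻¹ ∈ T.gt S' :=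
  (T.gt_le.2 fun r hr u => (by
    change n * T.xs r u * n⁻¹ ∈ T.gt S'
    rw [h.xs]; exact T.xs_mem (e r hr) u) :
    T.gt S ≤ (T.gt S').comap (MulAut.conj n).toMonoidHom) hg

/-- `U ∩ U⁻ = 1` -/
theorem pos_neg (hK : T.KB) {g : T.X} (h1 : g ∈ T.U) (h2 : g ∈ T.gt {r | r.1 < 36}) : g = 1 := by
  have k : ∀ r : Rt E6, r.1 < 36 → (gm r).1 < 36 := by decide +kernel
  have h3 : T.gt {r | r.1 < 36} ≤ (gen (XR E6 (xG E6 K)) {r | ¬ Pos r}).comap (fx T.ph).subtype :=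
    T.gt_le.2 fun r hr u => mul_mem
      (x_mem_gen (show ¬ Pos r from fun e => absurd (pos_iff.1 e) (not_le.2 hr)) _)
      (x_mem_gen (show ¬ Pos (gm r) from fun e => absurd (pos_iff.1 e) (not_le.2 (k r hr))) _)
  have h4 := (hK.gtY _ clU g).1 h1
  rw [gY_SU] at h4
  have := (stY K).borel_neg g h4 1 (one_mem _) (by rw [mul_one]; exact h3 h2)
  rw [mul_one] at this
  exact Subtype.ext this

/-- The Levi part of an element that lies in two opposite unipotent groups vanishes. -/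
theorem levi_kill (hK : T.KB) {S₀ S₁ : Set (Rt E6)} {n : T.X} {w : W6} (h : T.Lf n w)
    (h0 : ∀ r ∈ S₀, (w.1 r).1 < 36) (h1 : ∀ r ∈ S₁, 36 ≤ (w.1 r).1)
    (hN : T.gt S₀ ≤ Ns (T.gt S₁)) {g : T.X} (hg : g ∈ T.gt S₀ ⊔ T.gt S₁)
    (hn : n * g * n⁻¹ ∈ T.U) : g ∈ T.gt S₁ := by
  have : g ∈ ((T.gt S₀ ⊔ T.gt S₁ : Subgroup T.X) : Set T.X) := hg
  rw [coe_mul_of_left_le_normalizer_right _ _ hN] at this
  obtain ⟨l, hl, v, hv, rfl⟩ := this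
  have k1 : n * v * n⁻¹ ∈ T.U := lf_gt h h1 hv
  have k2 : n * l * n⁻¹ = 1 := pos_neg hK (by
    have := mul_mem hn (inv_mem k1)
    rwa [show n * (l * v) * n⁻¹ * (n * v * n⁻¹)⁻¹ = n * l * n⁻¹ by group] at this) (lf_gt h h0 hl)
  have k3 : l = 1 := by simpa using k2
  simpa [k3] using hv

end H94.TE
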