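import Cfsg.Agent.H86.TP.Spec

/-! Tower NF (S1308), chapter TE part 1: slot XB. -/

set_option autoImplicit false

namespace H94.TPX

open Cfsg Subgroup MulAction H14 H98 H1.Gold H31.S2 H14.GC H14.FE H14.NF H86.TP
open scoped commutatorElement

universe u

theorem jXB : H86.TP.JobXB.{u} := by
  intro G _ _ Q Q' T R E P x L X
  have hEP : E ≤ P := L.ltP.le
  have hc : ∀ y ∈ P, ∀ t ∈ T, ⁅t, y⁆ ∈ E := fun y hy => ((L.mem y).1 hy).2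
  have hEy : ∀ r ∈ E, ∀ y ∈ P, r * y = y * r := fun r hr y hy =>
    mem_centralizer_iff.1 (L.cenE hy) r hr
  have hEt : ∀ r ∈ E, ∀ t ∈ T, t * r = r * t := fun r hr t ht => by
    have h : r ∈ R ⊓ cen T := L.eq ▸ hr
    exact mem_centralizer_iff.1 h.2 t ht
  have hTi : ∀ t ∈ T, t⁻¹ = t := fun t ht => inv_eq_of_mul_eq_one_right (L.el t ht)
  -- injectivity modulo `E`
  have inj2 : ∀ t ∈ T, ∀ t' ∈ T, ⁅x, t⁆⁻¹ * ⁅x, t'⁆ ∈ E → t = t' := by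
    intro t ht t' ht' h
    have hz := X.cm t ht
    have hz' := X.cm t' ht'
    have e : ⁅x, t * t'⁆ = (⁅x, t⁆ * ⁅t, ⁅x, t'⁆⁆) * ⁅x, t⁆ * (⁅x, t⁆⁻¹ * ⁅x, t'⁆) := by
      simp only [commutatorElement_def]; group
    have hm : ⁅x, t * t'⁆ ∈ E := by
      rw [e, ← hEy _ (hc _ hz' t ht) _ hz, mul_assoc ⁅t, ⁅x, t'⁆⁆]
      exact E.mul_mem (E.mul_mem (hc _ hz' t ht) (L.sqE _ hz)) h
    have h1 := X.inj _ (T.mul_mem ht ht') hm
    rw [← hTi t ht]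
    exact inv_eq_of_mul_eq_one_right h1
  have key : ∀ t ∈ T, t ≠ 1 → ∀ y ∈ P, ∀ y' ∈ P, ⁅t, y⁆ = ⁅t, y'⁆ → y⁻¹ * y' ∈ E := by
    intro t ht h1 y hy y' hy' h
    by_contra hn
    apply L.nd _ (P.mul_mem (P.inv_mem hy) hy') hn t ht h1
    have e : ⁅t, y⁻¹ * y'⁆ = t * y⁻¹ * t⁻¹ * ⁅t, y'⁆ * y := by
      simp only [commutatorElement_def]; group
    rw [e, ← h]
    simp only [commutatorElement_def]; group
  have onto : ∀ t₀ ∈ T, t₀ ≠ 1 → ∀ r ∈ E, ∃ t ∈ T, ⁅t₀, ⁅x, t⁆⁆ = r := by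
    intro t₀ ht₀ h1 r hr
    let f : T → E := fun t => ⟨⁅t₀, ⁅x, (t : G)⁆⁆, hc _ (X.cm t t.2) t₀ ht₀⟩
    have hf : Function.Injective f := by
      intro a b hab
      have h2 : ⁅t₀, ⁅x, (a : G)⁆⁆ = ⁅t₀, ⁅x, (b : G)⁆⁆ := congrArg Subtype.val hab
      exact Subtype.ext (inj2 _ a.2 _ b.2 (key t₀ ht₀ h1 _ (X.cm _ a.2) _ (X.cm _ b.2) h2))
    have hb : Function.Bijective f := hf.bijective_of_nat_card_le L.card.le
    obtain ⟨a, ha⟩ := hb.2 ⟨r, hr⟩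
    exact ⟨a, a.2, congrArg Subtype.val ha⟩
  obtain ⟨t₀, ht₀, -, -, ⟨h01, -⟩, -⟩ := L.four
  have sur : ∀ y ∈ P, ∃ t ∈ T, y⁻¹ * ⁅x, t⁆ ∈ E := by
    intro y hy
    obtain ⟨t, ht, h⟩ := onto t₀ ht₀ h01 _ (hc y hy t₀ ht₀)
    exact ⟨t, ht, key t₀ ht₀ h01 y hy _ (X.cm t ht) h.symm⟩
  have sqc : ∀ y ∈ P, ∀ t ∈ T, y * t * (y * t) = 1 → y * y = ⁅t, y⁆ := by
    intro y hy t ht h
    have h2 : (y * y)⁻¹ = y * y := inv_eq_of_mul_eq_one_right (L.elE _ (L.sqE y hy))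
    rw [← h2, commutatorElement_def, hTi t ht]
    calc (y * y)⁻¹ = y⁻¹ * 1 * y⁻¹ := by group
      _ = y⁻¹ * (y * t * (y * t)) * y⁻¹ := by rw [h]
      _ = t * y * t * y⁻¹ := by group
  have zsq : ∀ t ∈ T, ⁅x, t⁆ * ⁅x, t⁆ = ⁅t, ⁅x, t⁆⁆ := by
    intro t ht
    apply sqc _ (X.cm t ht) t ht
    calc ⁅x, t⁆ * t * (⁅x, t⁆ * t) = x * (t * t) * x⁻¹ := by
          simp only [commutatorElement_def]; group
      _ = 1 := by rw [L.el t ht]; group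
  have ysq : ∀ y ∈ P, ∀ r ∈ E, y * r * (y * r) = y * y := by
    intro y hy r hr
    calc y * r * (y * r) = y * (r * y) * r := by group
      _ = y * y * (r * r) := by rw [hEy r hr y hy]; group
      _ = y * y := by rw [L.elE r hr, mul_one]
  refine ⟨X, sur, fun t ht h1 r hr => ?_, fun y hy hn => ?_, fun y hy t ht h1 h => ?_⟩
  · obtain ⟨s, hs, h⟩ := onto t ht h1 r hr
    exact ⟨_, X.cm s hs, h⟩
  · obtain ⟨t, ht, hr⟩ := sur y hy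
    have e : ⁅x, t⁆ = y * (y⁻¹ * ⁅x, t⁆) := by group
    have hzn : ⁅x, t⁆ ∉ E := fun hz => hn (by
      have h3 := E.mul_mem hz (E.inv_mem hr)
      have e3 : ⁅x, t⁆ * (y⁻¹ * ⁅x, t⁆)⁻¹ = y := by group
      rwa [e3] at h3)
    have h1 : t ≠ 1 := fun h => hzn (by rw [h]; simp)
    rw [← ysq y hy _ hr, ← e, zsq t ht]
    exact L.nd _ (X.cm t ht) hzn t ht h1
  · by_cases hn : y ∈ E
    · exact Or.inl hn
    right
    obtain ⟨t', ht', hr⟩ := sur y hy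
    have e : ⁅x, t'⁆ = y * (y⁻¹ * ⁅x, t'⁆) := by group
    have h2 : ⁅t', y * (y⁻¹ * ⁅x, t'⁆)⁆ = ⁅t', y⁆ := by
      have h3 := hEt _ hr _ (T.inv_mem ht')
      generalize y⁻¹ * ⁅x, t'⁆ = r at h3
      calc ⁅t', y * r⁆ = t' * y * (r * t'⁻¹) * r⁻¹ * y⁻¹ := by
            simp only [commutatorElement_def]; group
        _ = ⁅t', y⁆ := by rw [← h3]; simp only [commutatorElement_def]; group
    have h4 : ⁅t, y⁆ = ⁅t', y⁆ := by
      rw [← sqc y hy t ht h, ← ysq y hy _ hr, ← h2, ← e, zsq t' ht']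
    have h5 : t'⁻¹ * t = 1 := by
      by_contra hne
      apply L.nd y hy hn _ (T.mul_mem (T.inv_mem ht') ht) hne
      have e2 : ⁅t'⁻¹ * t, y⁆ = t'⁻¹ * ⁅t, y⁆ * y * t' * y⁻¹ := by
        simp only [commutatorElement_def]; group
      rw [e2, h4]
      simp only [commutatorElement_def]; group
    have h6 : t' = t := by simpa [inv_mul_eq_one] using h5
    rw [← h6]; exact hr

end H94.TPX
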